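-- Certificate data for Fi22U2; generated by a coset enumerator, checked by the kernel.
import Cfsg.Agent.Lib.Compute.TCFast

set_option autoImplicit false
set_option maxRecDepth 1000000

open Cfsg.Agent.Lib.Compute.ToddCoxeterCore Cfsg.Agent.Lib.Compute.ToddCoxeterPresented Cfsg.Agent.Lib.Compute.TCFast

namespace Cfsg.Agent.Lib.Compute.TC.Fi22U2

/-- the packed entries -/
noncomputable def tE : TT := .node (nat_lit 1024) (.leaf (nat_lit 0xffffff00000000000000b0200034d000071000000000010003f30000980004000069300034a000069000300009430003dc000094000000006d200034c00007f000100009730003f0000097000000001d200034b00007f00000000000ffffff000000000000009c20003470000700000000094200034500006b000000000010003ed00009700030000683000342000068000000000010003e600009600000000412000343000069000000009530003e000009500000000000ffffff000000000000002c200033e00006f0000000024200033c00006a000400009230003ca000092000000000010003dd000095000000000c200033b00007d0000000000200034000007d000000006830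0033a00006800000000000ffffff000000000000009c200033700006e0000000094200033600007c000000000010003d600009400030000673000334000067000200009130003c5000091000100009330003d20000930000000015200033500007c00000000000ffffff0000000000000058200033000006d0000000050200032f00007b0000000048200032d000068000000000010003cf0000930000000034200033200007b0001000067300032c000067000000000010003c600009200000000000ffffff000000000000007c200032a00007a0000000074200032900007a000000006c200032800007a000000000010003bf00009100020000663000326000066000000000010003b9000090000000000d200032700007a00000000000ffffff000000000000000010003b200008f00000000742000322000079000000006c2000321000079000000006020003240000790002000065300032000006500000000352000323000079000000008e30003ae00008e00000000000ffffff000000000000009c200031d0000780000000094200031c0000780000000088200031e00007800030000643000319000064000000000010003ab00008e000100008c30003a200008c0000000015200031a00006500000000000ffffff000000000000009c20003160000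77000000009420003150000770000000088200031700007700030000613000312000061000000000010003a600008d00000000412000313000062000000008c30003a000008c00000000000ffffff000000000000002c200030e0000760000000024200030d000076000000001c200030b0000630000000000100039d00008c0002000084300036c0000840000000000200030f0000640000000061300030a00006100000000000ffffff00000000000000b82000306000075000500005f300030200005f00000000a52000307000060000000009520003050000750002000089300038d000089000000005120003040000750000000025200030300007500000000000ffffff00000000060000833000368000083000500005e30002fc00005e0004000089300038f00008900000000952000300000074000000007520002fe000060000100008b300039a00008b000000002520002fd00007400000000000ffffff000000000600008230003600000820000000000100039700008b000400005d30002f600005d000000008920002fa000073000000006d20002f9000073000000004920002f700005e000000008a300039300008a00000000000ffffff00000000060000803000355000080000500008730003820000870000000000100039000008a0003000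05c30002f000005c000000006120002f4000072000000004120002f3000072000000001520002f100005d00000000000ffffff000000000600007f300034e00007f00000000001000389000089000400005b30002eb00005b0003000086300037b000086000000006d20002ed00005f00010000883000387000088000000001d20002ec00007100000000000ffffff000000000600007e300034800007e000000009420002e700005d00000000001000384000088000300005a30002e400005a000000006120002e9000070000000004120002e500005b0000000087300037f00008700000000000ffffff000000000600007d300033f00007d000000002420002e000005c0004000084300036e0000840000000000100037c000087000000000c20002de000063000000000020002e200006f000000005a30002dd00005a00000000000ffffff000000000600007c300033800007c000000009420002da00006e00000000001000376000086000300005930002d8000059000000006120002db00006e00010000853000374000085000000001520002d900006e00000000000ffffff000000000600007b300033100007b000000005020002d400006d000000004820002d200005a00000000001000371000085000000003420002d5000061000100005930002d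10000590000000000100036900008400000000000ffffff00000000000000b020002cd00005e00000000001000362000083000400005830002ca000058000000008920002cf00006c000000006d20002cc00006c0001000082300035e000082000000001d20002cb00006c00000000000ffffff000000000000009c20002c700005d000500007e300034600007e0000000000100035b000082000300005730002c400005700000000001000356000081000000004120002c50000580000000080300035200008000000000000ffffff000000000000002c20002c000005c000500007d300033d00007d000000001c20002bf00006a0000000000100034f000080000000000c20002be00006a000000000020002c200006a000000005730002bd00005700000000000ffffff000000000000009c20002b900005b000000009420002b70000580000000000100034900007f000300005630002b5000056000000006120002bb000069000100007e300034400007e000000001520002b600006900000000000ffffff000000000000005820002b100005a000000005020002af000057000400007b300032e00007b0000000000100034100007e000000003420002b3000068000100005630002ae0000560000000000100033900007d00000000000ffffff00000000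0000007c20002ab000059000000007420002aa000067000000006c20002a80000560000000000100033300007c000200005530002a60000550000000000100032b00007b000000000d20002a700006700000000000ffffff0000000006000054300029e00005400000000b920002a400006600000000b120002a3000066000000009d20002a10000550000000000100032500007a000000005920002a0000066000000002d200029f00006600000000000ffffff000000000000009c200029b0000650000000094200029a0000650000000088200029c000065000300005130002970000510000000000100031f000079000000004120002980000520000000078300031b00007800000000000ffffff000000000000002c200029500006400000000242000294000064000000001c200029200005300000000001000318000078000000000c2000291000064000100007630003100000760000000051300029000005100000000000ffffff000000000000002c200028c0000630000000024200028a0000500004000076300030c00007600000000142000289000063000200006f30002df00006f0000000000200028d000053000000004f300028800004f00000000000ffffff000000000000009c20002840000620000000094200028300006200000000882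000286000062000300004e300028000004e00000000612000285000062000100007730003140000770000000015200028100005200000000000ffffff0000000000000058200027e0000610000000050200027d0000610000000048200027b00004f00000000001000311000077000200006d30002d600006d000100004e300027a00004e0000000000100030900007600000000000ffffff00000000000000b82000278000060000500004c300027300004c000400007530003080000750000000095200027600004d000200007430002ff000074000000005120002750000600000000025200027400006000000000000ffffff00000000000000b0200027000005f00000000001000301000075000400004b300026d00004b0000000089200027100005f000200007130002ee0000710000000049200026f00005f000000001d200026e00005f00000000000ffffff000000000600006c30002ce00006c000000000010002fb000074000400004a300026700004a0000000089200026b00005e000000006d200026900004c000100007330002f8000073000000001d200026800005e00000000000ffffff000000000600006b30002c800006b000500007030002e8000070000000000010002f50000730003000049300026200004900000000612000265000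05d0000000041200026300004a000000007230002f200007200000000000ffffff000000000600006a30002c100006a000500006f30002e100006f000000001c200025f00005c000000000010002ef000072000000000c200025d0000500000000000200026000005c0000000049300025c00004900000000000ffffff000000000600006930002ba0000690000000094200025700004a000000000010002ea000071000300004830002550000480000000061200025900004b000100007030002e60000700000000015200025600005b00000000000ffffff000000000600006830002b200006800000000502000250000049000400006d30002d300006d000000000010002e30000700000000034200025200004f0001000048300024f000048000000000010002dc00006f00000000000ffffff000000000600006730002ac0000670000000074200024d000059000000006c200024b000048000000000010002d700006e00020000473000249000047000000000010002d000006d000000000d200024a00005900000000000ffffff000000000000009c200024500004a000500006930002b8000069000000000010002c900006c0003000046300024300004600000000612000247000058000100006b30002c600006b00000000152000244000058000000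00000ffffff0000000000000058200023f000049000500006830002b00000680000000048200023e000057000000000010002c300006b000000003420002410000570001000046300023d000046000000000010002bc00006a00000000000ffffff000000000000007c200023a00004800000000742000238000046000400006730002a9000067000000000010002b400006900020000453000236000045000000000010002ad000068000000000d200023700005600000000000ffffff0000000006000044300022f00004400000000b9200023400005500000000b12000232000045000300006630002a2000066000000000010002a500006700000000592000231000055000000002d200023000005500000000000ffffff0000000000000000100029d0000660000000094200022b0000540000000088200022d000054000300004430002280000440000000061200022c0000540000000041200022a0000540000000015200022900005400000000000ffffff000000000000002c2000226000053000000002420002240000430004000064300029300006400000000142000223000053000000000c20002220000530001000063300028e0000630000000042300022100004200000000000ffffff000000000000009c200021d000052000000009420002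1c0000520000000088200021f0000520003000041300021b0000410000000061200021e000052000100006530002990000650000000062300028200006200000000000ffffff0000000000000058200021800005100000000502000217000051000000004820002150000420000000000100029600006500000000342000219000051000100004130002140000410000000000100028f00006400000000000ffffff000000000000002c20002100000500005000063300028b000063000000001c200020f0000500000000014200020e000050000200005c300025e00005c000000000020002110000430000000040300020d00004000000000000ffffff0000000000000058200020b00004f000000005020002090000400004000061300027c0000610000000040200020800004f000200005a300025300005a000100003f300020700003f0000000000100028700006300000000000ffffff000000000000007c200020500004e0000000074200020400004e000000006c200020200003f0000000000100027f000062000200003e30001ff00003e00000000001000279000061000000000d200020000004100000000000ffffff00000000000000b820001fc00004d000500003d30001f800003d00000000a520001fd00004d000300006030002770000600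00000007520001fb00004d000000005120001fa00004d000000002520001f900004d00000000000ffffff00000000000000b020001f400004c00000000001000272000060000400003c30001f100003c000000008920001f500003d000200005e300026a00005e000000004920001f300004c000000001d20001f200004c00000000000ffffff000000000000009c20001ef00004b000000009420001ed00003c0000000000100026c00005f000300003b30001ea00003b000200005b300025a00005b000000004120001ec00004b000000001520001eb00004b00000000000ffffff00000000060000583000246000058000500005b300025800005b0000000000100026600005e000300003a30001e500003a000000006120001e700003c000100005d300026400005d000000001520001e600004a00000000000ffffff00000000060000573000240000057000500005a300025100005a000000004820001e10000490000000000100026100005d000000003420001e2000040000100003a30001e000003a0000000000100025b00005c00000000000ffffff0000000006000056300023b000056000000007420001dd00003a0004000059300024c0000590000000000100025400005b000200003930001db0000390000000000100024e00005a000000000d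20001dc00004800000000000ffffff000000000600003830001d200003800000000b920001d900004700000000b120001d7000039000000009d20001d600004700000000001000248000059000000005920001d400003e000000002d20001d300004700000000000ffffff000000000000007c20001cf00003a00050000563000239000056000000006c20001ce00004600000000001000242000058000200003730001cc0000370000000000100023c000057000000000d20001cd00004600000000000ffffff000000000600003630001c500003600000000b920001c900003700040000553000233000055000000009d20001c800004500000000001000235000056000000005920001c7000045000000002d20001c600004500000000000ffffff0000000000000000100022e00005500000000a420001c3000044000400003630001be00003600000000001000227000054000000006d20001c1000038000000004920001c0000044000000001d20001bf00004400000000000ffffff000000000000002c20001bc00004300050000533000225000053000000001c20001bb000043000000001420001ba000043000000000c20001b900004300010000503000212000050000000003530001b800003500000000000ffffff000000000000005820001b500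0042000000005020001b300003500040000513000216000051000000004020001b2000042000000003420001b6000042000100003430001b10000340000000000100022000005300000000000ffffff000000000000007c20001af000041000000007420001ae000041000000006c20001ac0000340000000000100021a000052000200003330001ab00003300000000001000213000051000000004e300020100004e00000000000ffffff000000000000005820001a9000040000500004f300020a00004f000000004820001a8000040000000004020001a7000040000200004930001e3000049000100003230001a60000320000000000100020c00005000000000000ffffff000000000000007c20001a400003f000000007420001a1000032000400004e300020300004e000000006020001a300003f0002000031300019e0000310000000000100020600004f000000000d200019f00003400000000000ffffff0000000006000030300019600003000000000b9200019c00003e00000000b1200019a000031000000009d200019900003e000000000010001fe00004e000100004730001d5000047000000002d200019700003300000000000ffffff00000000000000b0200019400003d000000000010001f700004d000400002f300019000002f00030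0004c30001f600004c000000006d200019300003d0000000049200019200003d000000001d200019100003d00000000000ffffff000000000000009c200018e00003c000500004b30001ee00004b000000000010001f000004c000300002e300018b00002e000200004a30001e800004a0000000041200018d00003c0000000015200018c00003c00000000000ffffff000000000000007c200018900003b0000000074200018600002e000000006c200018500003b000000000010001e900004b000200002d300018300002d0000000035200018800003b000000000d200018400003b00000000000ffffff000000000600004630001d0000046000500004830001de000048000000006c200018100003a000000000010001e400004a000200002c300017f00002c000000000010001df000049000000000d200018000003a00000000000ffffff000000000600002b300017600002b00000000b9200017c00002c000400004730001d8000047000000009d200017a00002d000000000010001da00004800000000592000178000031000000002d200017700003900000000000ffffff000000000000000010001d100004700000000a42000174000038000400002b300016f00002b00000000892000173000038000200004430001c200004400000000492000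171000030000000001d200017000003800000000000ffffff000000000600002a300016900002a000500004530001ca00004500000000b1200016d000037000000009d200016c000037000000000010001cb0000460000000059200016b000037000000002d200016a00003700000000000ffffff000000000000000010001c4000045000500002a300016200002a000000000010001bd000044000000009520001670000360000000075200016500002b000000005120001640000360000000025200016300003600000000000ffffff0000000000000058200015f000035000500004230001b40000420000000048200015e0000350000000040200015d000035000000003420001600000350001000029300015c000029000000000010001b700004300000000000ffffff000000000000007c200015a00003400000000742000157000029000400004130001ad0000410000000060200015900003400020000283000156000028000000000010001b0000042000000003f30001a000003f00000000000ffffff0000000006000027300014f00002700000000b9200015400003300000000b12000152000028000000009d2000151000033000000000010001aa00004100000000592000150000033000000003e300019800003e00000000000ffffff000000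000000007c200014d000032000500003f30001a200003f000000006c200014b0000320000000060200014c00003200020000253000148000025000000000010001a5000040000000000d200014900002900000000000ffffff0000000006000024300014000002400000000b92000145000025000400003e300019b00003e000000009d20001430000260000000000100019d00003f00010000393000179000039000000002d200014100002800000000000ffffff0000000000000000100019500003e00000000a4200013e000030000400002430001390000240000000089200013d000030000000006d200013c00003000010000383000172000038000000001d200013a00002700000000000ffffff000000000000009c200013600002f0000000094200013500002f0000000000100018f00003d000300002330001320000230000000061200013700002f0000000041200013400002f0000000015200013300002f00000000000ffffff000000000000007c200013000002e000500003b300018700003b000000006c200012d0000230000000000100018a00003c0002000022300012b0000220000000035200012f00002e000000000d200012c00002e00000000000ffffff0000000006000021300012300002100000000b9200012800002200000000b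1200012700002d0003000039300017b0000390000000000100018200003b00000000592000125000026000000002d200012400002d00000000000ffffff0000000006000020300011b0000200005000039300017d00003900000000b1200012100002c000000009d200011f0000220000000000100017e00003a0000000059200011d000025000000002d200011c00002c00000000000ffffff00000000000000001000175000039000500002030001140000200000000000100016e0000380000000095200011800002100020000363000166000036000000005120001160000240000000025200011500002b00000000000ffffff0000000000000000100016800003700000000001000161000036000000006c200011000002a0000000060200011200002a0002000020300010e0000200000000035200011100002a000000000d200010f00002a00000000000ffffff000000000000007c200010c00002900050000343000158000034000000006c200010a0000290000000060200010b000029000200001e300010900001e0000000000100015b0000350000000032300014a00003200000000000ffffff000000000600001d300010200001d00000000b9200010600001e00040000333000153000033000000009d200010400001f000000000010001550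00034000000005920001030000280000000031300014200003100000000000ffffff0000000000000000100014e00003300000000a42000100000027000400001d30000fc00001d000000008920000ff000027000000006d20000fe000027000000004920000fd0000270000000030300013b00003000000000000ffffff000000000600001b30000f400001b00000000b920000f800001c00000000b120000f700002600030000313000144000031000000007d20000fa000026000100002d300012600002d000000002d20000f500001f00000000000ffffff000000000600001a30000ed00001a0005000031300014600003100000000b120000f2000025000000009d20000f000001c00000000001000147000032000100002c300011e00002c000000002d20000ee00001e00000000000ffffff0000000000000000100013f000031000500001a30000e600001a00000000001000138000030000000009520000ea00001b000000007520000e9000024000100002b300011700002b000000002520000e700001d00000000000ffffff000000000000007c20000e4000023000000007420000e2000023000400002e300012e00002e0000000000100013100002f000200001930000e0000019000000003520000e3000023000000000d20000e10000230000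0000000ffffff000000000600001830000d9000018000500002d300012900002d00000000b120000dd000019000300002c300012000002c0000000000100012a00002e000000005920000db00001c000000002d20000da00002200000000000ffffff0000000000000000100012200002d000500001830000d200001800000000a520000d7000021000300002b300011900002b000000007520000d6000021000000005120000d400001b000000002520000d300002100000000000ffffff0000000000000000100011a00002c0000000000100011300002b000000008820000d0000020000300001830000cc0000180000000000100010d00002a000000004120000ce00001a000000001520000cd00002000000000000ffffff000000000600001630000c500001600000000b920000c800001700000000b120000c700001f00030000283000105000028000000007d20000ca00001f000000005920000c600001f000000002630000f600002600000000000ffffff000000000600001530000bf0000150005000028300010700002800000000b120000c300001e000000009d20000c100001700000000001000108000029000000005920000c000001e000000002530000ef00002500000000000ffffff000000000000000010001010000280005000015300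00b9000015000000000010000fb000027000000009520000bc000016000000007520000bb00001d000000005120000ba00001d000000002430000e800002400000000000ffffff000000000600001230000b2000012000500002630000f900002600000000b120000b5000013000300002530000f1000025000000007d20000b700001c000100002230000dc000022000000002d20000b300001700000000000ffffff000000000000000010000f3000026000500001230000ab00001200000000a520000b000001b000300002430000eb000024000000007520000ae000014000100002130000d5000021000000002520000ac00001600000000000ffffff000000000000000010000ec000025000000000010000e5000024000000008820000a900001a000300001230000a5000012000000006120000a800001a000100002030000cf000020000000001520000a600001500000000000ffffff0000000006000011300009e00001100000000b920000a3000019000400002230000de000022000000009d20000a2000019000000000010000df000023000000005920000a0000013000000002d200009f00001900000000000ffffff000000000000000010000d8000022000000000010000d100002100040000113000098000011000000000010000cb00002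0000000006d200009c0000180000000049200009a000012000000001d200009900001800000000000ffffff000000000600000e300009200000e000500001f30000c900001f00000000b1200009400000f000300001e30000c200001e000000007d200009600001700000000592000093000017000000001c30000b400001c00000000000ffffff000000000000000010000c400001f000500000e300008c00000e00000000a52000090000016000300001d30000bd00001d0000000075200008e0000100000000051200008d000016000000001b30000ad00001b00000000000ffffff000000000000000010000be00001e000000000010000b800001d0000000088200008a000015000300000e300008700000e0000000061200008900001500000000412000088000015000000001a30000a700001a00000000000ffffff00000000000000b82000084000014000500000d300007f00000d00000000a5200008500001400000000952000083000014000200001b30000af00001b000000005120000820000140000000025200008000001000000000000ffffff000000000600000c300007800000c00000000b9200007c000013000400001c30000b600001c000000009d200007b000013000000007d200007d000013000100001930000a100001900000000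2d200007900000f00000000000ffffff000000000000000010000b100001c000000000010000aa00001b000400000c300007200000c000000000010000a400001a000000006d200007500000d0001000018300009b000018000000001d200007300000e00000000000ffffff0000000000000000100009d0000190000000050200006e000011000000000010000970000180000000040200006d00001100000000342000070000011000100000c300006c00000c0000000001200006f00001100000000000ffffff00000000000000b82000069000010000500000a300006500000a00000000a5200006a000010000000009520000680000100002000016300008f0000160000000051200006600000b0000000014300008100001400000000000ffffff0000000006000009300005f00000900000000b9200006200000f00040000173000095000017000000009d200006100000f000000007d200006300000f0000000059200006000000f0000000013300007a00001300000000000ffffff000000000000000010000910000170000000000100008b0000160004000009300005a00000900000000001000086000015000000006d200005c00000a0000000049200005b00000e0000000012300007400001200000000000ffffff00000000000000b02000057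00000d0000000000100007e000014000400000830000530000080000000089200005800000d000200001230000760000120000000049200005600000d000000001d200005400000a00000000000ffffff000000000000000010000770000130000000074200005000000c000000000010000710000120000000060200005100000c0002000008300004d0000080000000000100006b000011000000000d200004e00000900000000000ffffff00000000000000b8200004a00000b0005000007300004600000700000000a5200004b00000b0000000095200004900000b0000000075200004800000b000100001030000670000100000000025200004700000b00000000000ffffff00000000000000b0200004300000a00000000001000064000010000400000630000400000060000000089200004400000a000200000e300005d00000e00000000492000041000007000000000d300005500000d00000000000ffffff0000000000000000100005e00000f0000000074200003c0000090000000000100005900000e0000000060200003e0000090002000006300003b0000060000000035200003d000009000000000c300004f00000c00000000000ffffff000000000000009c2000039000008000000009420000380000080000000000100005200000d000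300000530000340000050000000000100004c00000c000000004120000370000080000000015200003500000600000000000ffffff00000000000000b020000310000070000000000100004500000b0004000004300002e00000400000000892000032000007000000006d2000030000007000100000a300004200000a000000001d200002f00000700000000000ffffff000000000000009c200002c0000060000000094200002b0000060000000000100003f00000a000300000330000280000030000000000100003a000009000000004120000290000040000000008300003600000800000000000ffffff000000000000002c200002500000500000000242000024000005000000001c200002300000500000000001000033000008000000000c2000022000005000000000020000260000050000000003300002100000300000000000ffffff000000000000009c200001e0000040000000094200001d0000040000000000100002d0000070003000002300001b0000020000000061200001f0000040001000006300002a0000060000000015200001c00000400000000000ffffff0000000000000058200001800000300000000502000017000003000000004820000160000030000000000100002700000600000000342000019000003000100000230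000150000020000000000100002000000500000000000ffffff000000000000007c200001300000200000000742000012000002000000006c20000110000020000000000100001a0000040002000001300000f00000100000000001000014000003000000000d200001000000200000000000ffffff0000000006000000300000800000000000000b9200000d00000100000000b1200000c000001000000009d200000b0000010000000000100000e0000020000000059200000a000001000000002d200000900000100000000000ffffff00000000000000001000007000001000000000550000060000000000000004500000500000000000000035000004000000000000000250000030000000000000001500000200000000000000005000001000000)) (.node (nat_lit 2048) (.leaf (nat_lit 0xffffff000000000000002c200078f0001180005000119300079c000119000000008820006b90000ff00030000e130006b40000e1000000006120006b70000e80001000117300077d000117000000001520006b50000e400000000000ffffff00000000060000e030006ae0000e000000000b920006b20000fe0004000119300079a000119000000009d20006b10000fe0000000000100079f00011a000000005920006af0000e2000000011330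0074900011300000000000ffffff000000000000000010007910001190000000000100078500011800040000e030006a90000e000000000001000778000117000000006d20006ac0000fd000000004920006aa0000e10000000112300073c00011200000000000ffffff00000000060000dd30006a20000dd0000000050200075c00011400000000b120006a50000de00030001153000767000115000000007d20006a70000fc000000005920006a30000e60000000116300076e00011600000000000ffffff0000000000000105200075a00011400050000dd300069b0000dd00000000a520006a00000fb000300011630007720001160000000075200069e0000df0000000051200069c0000e50000000115300076100011500000000000ffffff000000000000002c200076900011500050001163000776000116000000008820006990000fa00030000dd30006950000dd000000006120006980000fa000000004120006960000e40000000114300075500011400000000000ffffff00000000000000b820006920000f900050000dc300068d0000dc00000000a520006930000f9000000009520006910000f900020001153000765000115000000005120006900000f90000000025200068e0000df00000000000ffffff00000000060000db30006860000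db00000000b9200068a0000f800040001163000774000116000000009d20006890000f8000000007d200068b0000f80001000113300074b000113000000002d20006870000de00000000000ffffff0000000000000000100076b0001160000000000100075e00011500040000db30006800000db00000000001000752000114000000006d20006830000dc0001000112300073e000112000000001d20006810000dd00000000000ffffff000000000000000010007460001130000000050200067b0000f6000000000010007390001120000000040200067a0000f60000000034200067e0000f600010000db30006790000db0000000001200067c0000e000000000000ffffff00000000060001103000732000110000000009420006760000f50000000000100073300011100030000da30006730000da000000006120006770000f5000000004120006750000f5000000001520006740000f500000000000ffffff000000000000007c20006700000da0000000074200066e0000f4000000006c200066d0000f40000000000100072c00011000020000d9300066b0000d90000000035200066f0000f4000000000d200066c0000f400000000000ffffff00000000060000d730006640000d700000000b920006680000d800000000b120006670000f30000000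09d20006660000f3000200010430006db000104000000005920006650000f3000000010f300072700010f00000000000ffffff00000000060000d4300065d0000d4000500010f300072b00010f00000000b120006610000d5000000009d20006600000f2000200010130006c8000101000100010d300071b00010d000000002d200065e0000d800000000000ffffff0000000000000000100072400010f00050000d430006550000d400000000a5200065b0000f10000000095200065a0000f1000000007520006580000d6000100010c300071300010c000000002520006560000d700000000000ffffff00000000060000d3300064d0000d300000000b920006530000f0000400010d300071e00010d000000009d20006510000d90000000000100071f00010e0000000059200064f0000d5000000002d200064e0000f000000000000ffffff0000000000000000100071700010d0000000000100070f00010c00040000d330006460000d30000000089200064b0000ef000000006d200064a0000ef000000004920006480000d4000000001d20006470000ef00000000000ffffff00000000000000b020006430000ee00000000a420006440000ee00040000d230006400000d2000300010830006f8000108000000006d20006420000ee0000000049200064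10000ee000000010b300070b00010b00000000000ffffff00000000000000b8200063e0000ed00050000d030006380000d00000000000100070800010b0000000095200063c0000d10000000075200063b0000ed000100010a300070400010a000000002520006390000d200000000000ffffff00000000000000b820006360000ec00050000cf30006310000cf000400010630006eb000106000300010a300070600010a000000007520006350000ec000000005120006330000d1000000002520006320000ec00000000000ffffff000000000000009c200062e0000eb0000000000100070000010a0000000088200062f0000eb00030000cf300062a0000cf000000000010006fa0001090000000041200062c0000d00000000015200062b0000eb00000000000ffffff00000000000000b820006280000ea00050000cd30006240000cd000000000010006f3000108000000009520006260000ce000200010230006cc000102000000005120006250000ea000000010730006ef00010700000000000ffffff00000000000000b820006200000e900050000cb300061b0000cb00000000a520006210000d1000300010730006f10001070000000075200061e0000cc000100010630006e70001060000000025200061c0000ce00000000000ffffff00000000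0000009c20006180000e8000000000010006ec000107000000008820006190000e800030000cb30006150000cb00020000ff30006b80000ff000100010530006e0000105000000001520006160000cd00000000000ffffff00000000000000b020006130000e7000000000010006e300010600040000ca300060e0000ca000000000010006dc000105000000006d20006120000e7000000004920006100000cb000000001d200060f0000e700000000000ffffff00000000060000c730006080000c7000500010430006d900010400000000b120006090000c8000300010330006d2000103000000007d200060b0000d800010000fc30006a40000fc000000010130006c400010100000000000ffffff000000000000000010006d500010400050000c730006030000c700000000a520006060000e5000300010230006ce000102000000007520006040000c900010000fb300069d0000fb000000010030006bd00010000000000000ffffff000000000000000010006cf000103000000000010006c9000102000000008820006010000e400030000c730005fe0000c7000000006120005ff0000cd00010000fa30006970000fa00000000ff30006b60000ff00000000000ffffff00000000000000b820005fa0000d600050000c630005f40000c600000000a52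0005fc0000e3000000009520005f80000cc000200010030006bf000100000000005120005f70000e3000000002520005f50000c900000000000ffffff00000000060000c530005ec0000c500000000b920005f00000e2000400010130006c6000101000000009d20005ef0000e2000000007d20005f10000d500010000fe30006b00000fe000000002d20005ed0000c800000000000ffffff000000000000000010006c1000101000000000010006ba00010000040000c530005e60000c5000000000010006b30000ff000000006d20005e90000c600010000fd30006ab0000fd000000001d20005e70000c700000000000ffffff000000000000000010006ad0000fe000000005020005e30000e0000000000010006a80000fd000000004020005e20000e0000000003420005e40000e000010000c530005e10000c500000000f6300067d0000f600000000000ffffff00000000000000b820005de0000df00050000c330005da0000c300000000a520005df0000df000000009520005dd0000df00020000fb300069f0000fb000000005120005db0000c400000000f9300068f0000f900000000000ffffff00000000060000c230005d30000c200000000b920005d70000de00040000fc30006a60000fc000000009d20005d60000de000000007d20005d8000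0de000000005920005d40000c800000000f830006880000f800000000000ffffff000000000000000010006a10000fc0000000000100069a0000fb00040000c230005cd0000c2000000000010006940000fa000000006d20005d00000c3000000004920005ce0000c700000000f730006820000f700000000000ffffff00000000000000b020005ca0000dc0000000000100068c0000f900040000c130005c60000c1000000008920005cb0000dc00020000f730006840000f7000000004920005c90000dc000000001d20005c70000c300000000000ffffff000000000000000010006850000f8000000007420005c30000db0000000000100067f0000f7000000006020005c40000db00020000c130005c00000c1000000000010006780000f6000000000d20005c10000c200000000000ffffff00000000060000f430006710000f4000000007420005bd0000da000000006c20005bc0000da000000000010006720000f500020000c030005ba0000c0000000003520005be0000da000000000d20005bb0000da00000000000ffffff00000000060000be30005b30000be00000000b920005b80000d900000000b120005b70000d900030000f030006520000f00000000000100066a0000f4000000005920005b50000bf000000002d20005b40000d9000000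00000ffffff00000000060000ba30005ad0000ba00050000f330006690000f300000000b120005b00000bb000000009d20005af0000d800020000e6300060c0000e6000000005920005ae0000d800000000f2300065f0000f200000000000ffffff000000000000000010006630000f300050000ba30005a60000ba00000000a520005ab0000d7000000009520005aa0000d7000000007520005a80000bc000000005120005a70000d700000000f130006570000f100000000000ffffff00000000060000e330005fb0000e300050000b9300059e0000b900000000a520005a40000d6000000009520005a20000bd00020000f130006590000f1000000005120005a10000d60000000025200059f0000bc00000000000ffffff00000000060000b830005970000b800000000b9200059c0000d500040000f230006620000f2000000009d200059a0000bf00020000e230005f20000e200010000f030006500000f0000000002d20005980000bb00000000000ffffff0000000000000000100065c0000f2000000000010006540000f100040000b830005900000b8000000008920005950000d4000000006d20005930000b900010000ef30006490000ef000000001d20005910000ba00000000000ffffff0000000000000000100064c0000f0000000005020005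8c0000d3000000000010006450000ef0000000040200058a0000be0000000034200058e0000d300010000b830005890000b80000000001200058d0000d300000000000ffffff00000000000000b820005870000d200050000b630005820000b60000000000100063f0000ee000000009520005850000b7000000007520005840000d2000000005120005830000d200000000ed300063a0000ed00000000000ffffff00000000000000b820005800000d100050000b4300057b0000b400040000e930006220000e900030000ed300063d0000ed0000000075200057e0000b500010000ec30006340000ec0000000025200057c0000b700000000000ffffff000000000000009c20005770000d0000000000010006370000ed000000008820005790000d000030000b430005740000b4000000006120005780000d000010000eb300062d0000eb000000001520005750000b600000000000ffffff00000000000000b020005720000cf000000000010006300000ec00040000b3300056d0000b3000000000010006290000eb000000006d20005710000cf0000000049200056f0000b4000000001d200056e0000cf00000000000ffffff00000000000000b820005690000ce00050000b130005650000b100000000a5200056a0000b700030000ea30006270000ea0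00000007520005670000b2000000005120005660000ce00000000e9300061d0000e900000000000ffffff000000000000009c20005620000cd000000000010006230000ea000000008820005630000cd00030000b130005600000b100020000e430006000000e4000000004120005610000cd00000000e830006170000e800000000000ffffff00000000000000b8200055b0000bd00050000b030005570000b000000000a5200055d0000b500030000e330005f90000e300020000e9300061f0000e90000000051200055a0000cc000000002520005580000b200000000000ffffff00000000000000b020005550000cb0000000000100061a0000e900040000af30005500000af000000000010006140000e8000000006d20005530000b000010000e730006110000e7000000001d20005510000b100000000000ffffff0000000000000058200054c0000ca0000000050200054a0000b30000000000100060d0000e7000000004020005490000ca0000000034200054e0000ca00010000af30005480000af0000000001200054d0000ca00000000000ffffff00000000000000b820005440000bc00050000ad300053f0000ad00000000a520005460000c9000000009520005420000b200020000e530006050000e5000000005120005400000ae00000000e3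30005f60000e300000000000ffffff00000000060000ac30005390000ac00000000b9200053b0000c800040000e6300060a0000e6000000009d200053a0000c8000000007d200053c0000bb00010000de30005d50000de00000000e230005ee0000e200000000000ffffff000000000000000010006070000e6000000000010006020000e500040000ac30005350000ac000000000010005fd0000e4000000006d20005360000ad00010000dd30005cf0000dd00000000e130005e80000e100000000000ffffff00000000000000b020005300000b9000000000010005f30000e300040000ab300052c0000ab000000008920005320000b000020000e130005ea0000e10000000049200052f0000c6000000001d200052d0000ad00000000000ffffff000000000000000010005eb0000e2000000007420005290000c5000000000010005e50000e10000000060200052a0000c500020000ab30005260000ab000000000010005e00000e0000000000d20005270000ac00000000000ffffff00000000000000b820005230000c400050000aa300051e0000aa00000000a520005240000c4000000009520005220000c4000000007520005200000ae00010000df30005dc0000df0000000025200051f0000c400000000000ffffff00000000000000b0200051b00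00c3000000000010005d90000df00040000a930005180000a90000000089200051c0000c300020000dd30005d10000dd000000004920005190000aa00000000dc30005c80000dc00000000000ffffff000000000000000010005d20000de000000007420005130000c2000000000010005cc0000dd000000006020005160000c200020000a930005120000a9000000003520005140000ac00000000db30005c20000db00000000000ffffff000000000000009c20005100000c10000000094200050f0000c1000000000010005c50000dc00030000a8300050b0000a8000000000010005bf0000db0000000041200050e0000c10000000015200050c0000a900000000000ffffff00000000060000a630005030000a600000000b920005090000c000000000b120005080000c0000000009d20005070000c0000000000010005b90000da000000005920005050000a7000000002d20005040000c000000000000ffffff00000000060000a430004fc0000a400000000b920005000000bf00000000b120004ff0000bf00030000d5300059b0000d5000000007d20005010000bf00010000d930005b60000d9000000002d20004fd0000a500000000000ffffff000000000000000010005b20000d9000000005020004f70000be000000004820004f60000be00030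000d3300058b0000d3000000003420004f90000a600010000a430004f50000a4000000000120004f80000be00000000000ffffff00000000060000cc300055c0000cc00050000a130004ed0000a100000000a520004f20000a300030000d630005a30000d6000000007520004f10000bd000000005120004f00000bd000000002520004ee0000a200000000000ffffff00000000060000c930005450000c9000500009f30004e600009f00000000a520004eb0000bc000000009520004e90000a200020000d730005a90000d7000000005120004e70000a000000000d630005a00000d600000000000ffffff000000000600009e30004e000009e00000000b920004e40000bb00040000d830005b10000d8000000009d20004e20000a500020000c8300053d0000c8000000005920004e10000bb00000000d530005990000d500000000000ffffff000000000000000010005ac0000d8000000000010005a50000d7000400009e30004da00009e000000008920004de0000ba000000006d20004dc00009f000000004920004db0000ba00000000d430005920000d400000000000ffffff00000000060000c630005310000c60000000000100059d0000d6000400009d30004d300009d000000008920004d70000a100020000d430005940000d400000000492000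4d60000b9000000001d20004d400009f00000000000ffffff000000000000000010005960000d5000000007420004cf0000b80000000000100058f0000d4000000006020004d00000a4000200009d30004cc00009d000000000010005880000d3000000000d20004cd00009e00000000000ffffff00000000000000b820004ca0000b7000500009b30004c600009b00040000ce300056b0000ce00030000d230005860000d2000000007520004c800009c000000005120004c70000b700000000d1300057d0000d100000000000ffffff000000000000009c20004c20000b6000000000010005810000d2000000008820004c40000b6000300009b30004c000009b000000006120004c30000b6000000004120004c10000b600000000d030005760000d000000000000ffffff00000000000000b820004bd0000a3000500009a30004b800009a00040000cc300055e0000cc000000009520004bc0000b500020000d1300057f0000d1000000005120004bb0000b5000000002520004b900009c00000000000ffffff00000000000000b020004b60000b40000000000100057a0000d1000400009930004b1000099000000000010005730000d0000000006d20004b400009a00010000cf30005700000cf000000001d20004b200009b00000000000ffffff000000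000000005820004ad0000b300050000ca300054b0000ca0000000000100056c0000cf000000004020004ac0000b3000000003420004af0000b3000100009930004ab000099000000000120004ae0000b300000000000ffffff00000000000000b820004a60000a2000500009730004a300009700000000a520004a800009c00030000c930005430000c900020000ce30005680000ce000000005120004a400009800000000cc30005590000cc00000000000ffffff00000000000000b020004a10000b1000000000010005640000ce0004000096300049d0000960000000000100055f0000cd000000006d200049f0000970000000049200049e0000b100000000cb30005520000cb00000000000ffffff00000000000000b0200049a0000a1000000000010005560000cc0004000095300049600009500030000c630005330000c600020000cb30005540000cb000000004920004990000b0000000001d200049700009700000000000ffffff000000000000007c20004940000af000000007420004910000990000000000100054f0000cb000000006020004930000af0002000095300048e000095000000000010005470000ca000000000d200048f00009600000000000ffffff00000000000000b8200048a0000a00005000094300048600009400000000a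5200048c0000ae0000000095200048800009800020000c430005210000c400010000c930005410000c9000000002520004870000ae00000000000ffffff00000000000000b0200048100009f0000000000100053e0000c90004000093300047e0000930000000089200048300009700020000c730005370000c70000000049200047f00009400000000c6300052e0000c600000000000ffffff000000000000000010005380000c80000000074200047b0000ac000000000010005340000c70000000060200047c0000ac0002000093300047a00009300010000c230005150000c200000000c530005280000c500000000000ffffff000000000000009c200047700009d000000009420004760000ab0000000000100052b0000c600030000923000472000092000000000010005250000c5000000004120004750000ab0000000015200047300009300000000000ffffff00000000000000b0200046f0000aa0000000000100051d0000c40004000091300046b000091000000008920004700000aa000000006d200046d00009400010000c3300051a0000c3000000001d200046c0000aa00000000000ffffff000000000000009c20004690000a9000000009420004680000a9000000000010005170000c300030000903000465000090000000000010005110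000c20000000041200046600009100000000c1300050d0000c100000000000ffffff000000000000002c20004620000a8000000002420004610000a8000000001c20004600000a80000000000100050a0000c1000000000c200045f0000a8000000000020004630000a80000000090300045e00009000000000000ffffff000000000600008e300045600008e00000000b9200045b0000a700000000b1200045a0000a7000000009d20004590000a7000000007d200045c0000a700010000c030005060000c0000000002d200045700008f00000000000ffffff000000000000000010005020000c0000000005020004530000a6000000004820004520000a6000000004020004510000a600020000be30004fa0000be000100008e300045000008e000000000120004540000a600000000000ffffff000000000600008d300044a00008d00000000b9200044d0000a500000000b1200044c0000a500030000bb30004e30000bb000000007d200044e0000a50000000059200044b0000a500000000bf30004fe0000bf00000000000ffffff000000000000000010004fb0000bf000000007420004480000a4000000006c20004470000a400030000b830004d10000b8000200008c300044400008c000000000010004f40000be000000000d200044500008d0000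0000000ffffff00000000060000b530004be0000b5000500008a300043d00008a00040000bd30004f30000bd000000009520004420000a3000000007520004410000a3000000005120004400000a30000000025200043e00008b00000000000ffffff00000000060000b230004a70000b20005000088300043600008800000000a5200043a00008b00030000bc30004ea0000bc000000007520004390000a20000000051200043700008900000000bd30004ef0000bd00000000000ffffff00000000060000b0300049b0000b0000000000010004ec0000bd0004000087300043000008700030000b930004d80000b9000000006d20004340000a1000000004920004330000a1000000001d200043100008800000000000ffffff00000000060000ae300048b0000ae0005000086300042900008600000000a5200042e0000a00000000095200042c0000890000000075200042b0000a000010000bc30004e80000bc0000000025200042a0000a000000000000ffffff00000000060000ad30004820000ad000000000010004e50000bc000400008530004230000850000000089200042600008800020000ba30004dd0000ba0000000049200042400008600000000b930004d50000b900000000000ffffff000000000000000010004df0000bb0000000074200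041e00009e000000000010004d90000ba0000000060200042000008d0002000085300041d0000850000000035200041f00009e00000000b830004ce0000b800000000000ffffff00000000060000ab30004780000ab0000000094200041b00009d000000000010004d20000b900030000843000417000084000000000010004cb0000b80000000041200041a00009d0000000015200041800008500000000000ffffff00000000000000b8200041400008b0005000082300041000008200040000b230004a90000b20000000095200041300009c00020000b730004c90000b70000000051200041100008300000000b530004ba0000b500000000000ffffff00000000000000b0200040e00009b000000000010004c50000b70004000081300040a000081000000000010004bf0000b6000000006d200040c0000820000000049200040b00009b00000000b430004b30000b400000000000ffffff00000000000000b0200040600008a000000000010004b70000b5000400008030004020000800000000089200040800009a00020000b430004b50000b40000000049200040500009a000000001d200040300008200000000000ffffff000000000000007c200040000009900050000af30004920000af000000000010004b00000b4000000006020003ff00009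9000200008030003fc000080000000000010004aa0000b3000000000d20003fd00008100000000000ffffff00000000000000b820003f7000089000500007f30003f400007f00000000a520003f900008300030000ae30004890000ae000000007520003f600009800010000b230004a50000b2000000002520003f500009800000000000ffffff00000000000000b020003f1000088000000000010004a20000b2000400007e30003ee00007e00030000ad30004840000ad00020000b130004a00000b1000000004920003ef00007f00000000b030004980000b000000000000ffffff000000000000007c20003ec000096000000007420003e80000810000000000100049c0000b1000000006020003eb000096000200007e30003e700007e000000003520003ea00009600000000af30004900000af00000000000ffffff000000000000009c20003e4000087000000009420003e2000080000000000010004950000b0000300007d30003de00007d0000000000100048d0000af000000004120003e1000095000000001520003df00007e00000000000ffffff00000000000000b020003d9000086000000000010004850000ae000400007c30003d700007c000000008920003db00007f00020000aa300046e0000aa00010000ad30004800000ad00000000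1d20003d800009400000000000ffffff000000000000009c20003d4000085000000009420003d30000930000000000100047d0000ad000300007b30003d000007b000000000010004790000ac000000004120003d100007c00000000ab30004740000ab00000000000ffffff000000000000002c20003cc000084000000002420003cb000092000000001c20003c900007d000000000010004710000ab000000000c20003c8000092000000000020003ce000092000000007b30003c700007b00000000000ffffff000000000000009c20003c3000091000000009420003c20000910000000000100046a0000aa000300007a30003c000007a000000006120003c400007c00010000a930004670000a9000000001520003c100009100000000000ffffff000000000000005820003bd000090000000005020003bc000090000000004820003bb000090000000000010004640000a9000000003420003be000090000100007a30003ba00007a0000000000100045d0000a800000000000ffffff000000000600007930003b300007900000000b920003b700008f00000000b120003b600008f000000009d20003b500008f000000007d20003b800008f000000005920003b400008f00000000a730004580000a700000000000ffffff00000000000000001000455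0000a7000000007420003b000008e000000006c20003af00008e000000006020003b100008e000200007830003ac0000780000000000100044f0000a6000000000d20003ad00007900000000000ffffff000000000000000010004490000a5000000007420003a900008d000000006c20003a800008d000300009e300042100009e000200007730003a7000077000000003520003aa00008d00000000a430004460000a400000000000ffffff000000000000009c20003a400008c000000009420003a300008c000000008820003a500008c0003000076300039e000076000000000010004430000a4000000004120003a10000780000000015200039f00007700000000000ffffff000000000600009c300041500009c0005000073300039800007300040000a2300043b0000a20000000095200039c00008b0000000075200039b00008b0000000051200039900007400000000a3300043f0000a300000000000ffffff000000000600009a300040700009a0000000000100043c0000a3000400007230003910000720000000089200039600008a000000006d200039500008a0000000049200039400008a000000001d200039200007300000000000ffffff000000000600009830003f80000980005000071300038a00007100000000a5200038e000074000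30000a0300042d0000a00000000075200038c00007500010000a230004380000a20000000025200038b00008900000000000ffffff000000000600009730003f2000097000000000010004350000a200040000703000385000070000300009f300042700009f000000006d20003880000880000000049200038600007100000000a130004320000a100000000000ffffff000000000600009530003e5000095000000009420003810000720000000000100042f0000a1000300006f300037d00006f00000000612000383000087000000004120003800000870000000015200037e00007000000000000ffffff000000000600009430003da000094000000000010004280000a0000400006e300037700006e0000000089200037a000071000000006d2000379000086000100009f300042500009f000000001d200037800008600000000000ffffff000000000600009330003d5000093000000009420003750000850000000000100042200009f000300006d300037200006d0000000000100041c00009e0000000041200037300006e000000009d300041900009d00000000000ffffff000000000600009230003cd0000920000000024200036f000084000000001c200036d00006f0000000000100041600009d000000000c200036b000076000000000020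00370000084000000006d300036a00006d00000000000ffffff00000000000000b82000367000074000500006c300036300006c000400009830003fa0000980000000095200036600008300000000752000365000083000100009c300041200009c0000000025200036400008300000000000ffffff00000000000000b0200035f0000730000000000100040f00009c000400006b300035c00006b00000000892000361000082000200009b300040d00009b0000000049200035d00006c000000009a300040400009a00000000000ffffff000000000000007c200035a000081000500009630003e90000960000000000100040900009b00000000602000359000081000200006b300035700006b00000000352000358000081000000009930003fe00009900000000000ffffff000000000000009c2000354000072000500009530003e30000950000000000100040100009a000300006a300035000006a000000000010003fb000099000000004120003530000800000000015200035100006b)) (.leaf (nat_lit 0xffffff00000000000000b020007dd00011f00000000a420007e000011f000400010a30007d700010a000000008920007de00010e000000006d20007db000110000000004920007d900010b000000001d20007d800011f00000000000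ffffff000000000600010930007ce00010900000000b920007d300011100000000b120007d200011e000000009d20007d100011e000000007d20007d500011e000000005920007d000011e000000002d20007cf00011e00000000000ffffff00000000000000b020007cb000111000500010930007c3000109000400011030007ca000110000000009520007c800011d000000007520007c600010a000000005120007c500011d000000002520007c400011d00000000000ffffff00000000000000b820007bf00011c000500010530007b7000105000400010e30007c100010e000000009520007bd000106000000007520007bb00010d000000005120007b9000107000000002520007b800011c00000000000ffffff00000000000000c020007b400010c000000010420007b200010d000000006c20007ae00011b000000006020007b100011b000200010530007ac000105000000003520007af00010f000000000d20007ad00011b00000000000ffffff000000000000007c20007a800011a000000007420007a500011a000000006c20007a3000107000300010b30007aa00010b00020000fe30007a00000fe000000003520007a600010e000000000d20007a100010800000000000ffffff00000000060000fd30007920000fd00000000b9200079b000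0ff00000000b120007990000fe000000009d20007970001000002000107300079e00010700000000592000795000101000000002d200079300010200000000000ffffff00000000060000ff30007900000ff00050000fd30007860000fd00000000a5200078e0001180000000095200078c0001010000000075200078b000118000000005120007890001000000000025200078700010300000000000ffffff00000000060001003000784000100000500010130007820001010000000088200077e00011700030000fd30007790000fd000200010f300078000010f0000000041200077c0000ff0000000015200077a00010400000000000ffffff00000000060000f7300076c0000f700000000b920007750000fa00000000b120007730000f8000000009d20007710000fb000000007d20007770001160000000059200076f000102000000002d200076d0000fc00000000000ffffff00000000060000fa300076a0000fa00050000f7300075f0000f700000000a52000768000115000000009520007660000fc000000007520007640000f900000000512000762000103000000002520007600000fb00000000000ffffff00000000060000fb300075b0000fb00050000fc300075d0000fc0000000088200075900011400030000f730007530000f7000000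0061200075800011400000000412000756000104000000001520007540000fa00000000000ffffff00000000060000f630007470000f600000000b9200074f00011300000000b1200074d000102000000009d200074c000113000200010830007510001080000000059200074a0000f8000000002d20007480000fe00000000000ffffff0000000006000102300074100010200000000b9200074400010300040000f6300073a0000f6000000009d2000742000104000000006d200073f0001120000000049200073d0000f7000000001d200073b0000fd00000000000ffffff000000000600011d30007cc00011d000500011e30007d400011e00040000f530007340000f500000000892000738000111000000006d200073700011100000000492000736000111000000001d200073500011100000000000ffffff000000000000009c20007310000f50000000094200073000011000000000c220007c900011d00030000f4300072d0000f4000200011f30007dc00011f0000000041200072f0001100000000015200072e00011000000000000ffffff00000000060000f130007250000f100000000b9200072a0000f200000000b1200072900010f000000009d200072800010f000000000c200077f000117000100011b30007b000011b000000002d20007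260000f300000000000ffffff000000000000007c200072300010e0000000074200072200010e000000004820007c000011c000300011f30007df00011f00020000f030007200000f0000100011a30007a700011a000000000d200072100010e00000000000ffffff00000000060000ef30007180000ef000500011b30007b300011b00000000b1200071d0000f0000000009d200071c00010d000200011c30007bc00011c0000000059200071a0000f2000000002d200071900010d00000000000ffffff000000000600011b30007b500011b00050000ef30007100000ef00000000a5200071600010c0000000095200071500010c0000000075200071400010c000000005120007120000f10000000025200071100010c00000000000ffffff00000000000000b0200070d00010b00000000a4200070e00010b00040000ed30007090000ed000000001420007a900011a000000006d200070c00010b000100011f30007da00011f000000001d200070a0000ee00000000000ffffff00000000000000b8200070700010a00050000eb30007010000eb000000000010007d600011f000000009520007050000ec000200011d30007c700011d000000005120007030000ed0000000025200070200010a00000000000ffffff000000000000000010007cd00011e0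00000000010007c200011d000000006c20006fd000109000000006020006ff00010900020000eb30006fb0000eb000000003520006fe000109000000000d20006fc00010900000000000ffffff00000000000000b020006f600010800000000a420006f900010800040000ea30006f40000ea000000008920006f70000ee000000006d2000750000113000000004920006f5000108000000011a30007a200011a00000000000ffffff00000000000000b820006f200010700050000e830006ed0000e8000400011a30007a400011a000000009520006f00000e9000000000c200079d000119000100011c30007ba00011c000000002520006ee0000ea00000000000ffffff00000000000000b820006e900010600050000e730006e40000e700000000a520006ea0000ec000300011c30007be00011c000000007520006e8000106000000005120006e60000e9000000002520006e500010600000000000ffffff000000000000009c20006e1000105000000000010007b600011c000000008820006e200010500030000e730006dd0000e7000000000010007ab00011b000000004120006df0000e8000000001520006de00010500000000000ffffff00000000060000e530006d60000e500000000b920006d80000e600000000b120006d70001040003000112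3000743000112000000007d20006da0000f3000100011430007570001140000000117300077b00011700000000000ffffff00000000060000e430006d00000e40005000112300074500011200000000b120006d3000103000000009d20006d10000e6000000007d20006d4000103000100011530007630001150000000118300078800011800000000000ffffff0000000000000105200074000011200050000e430006ca0000e40004000113300074e000113000000009520006cd0000e5000000007520006cb0000ea000100011630007700001160000000119300079400011900000000000ffffff00000000060000e130006c20000e10000000024200078100011700000000b120006c50000e20003000118300078d000118000000007d20006c70000f200010001193000796000119000000002d20006c30000e600000000000ffffff000000000000002c200078300011700050000e130006bb0000e100000000a520006c000010000030001193000798000119000000007520006be0000e30001000118300078a000118000000002520006bc0000e5)))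
/-- the definitions -/
noncomputable def tP : TT := .leaf (nat_lit 0x8540000084e0000084d0000082d0000082a000007f2000007ee000007ed000007eb000007be000007bd000007bb000007b6000007b4000007ac000007a30000078e000007820000077e0000077d0000076c0000075d0000075a00000754000007450000073d0000073b0000072e00000726000007250000070e0000070d0000070b0000070600000704000006ee000006ed000006eb000006e5000006de000006dc000006d9000006d3000006ca000006be000006a6000006a50000069e0000069c00000694000006850000067d0000067b0000066d0000065d0000065b000006540000063e0000063d0000063b000006350000062e0000062c000006290000061d00000616000006140000060c0000060a00000602000005f6000005d6000005d5000005cd000005c6000005c4000005c1000005b5000005a5000005a30000059c0000058d0000058b000005850000057c000005790000056d00000566000005640000055c0000055a000005550000054c0000054a000005430000053600000526000005210000050d000004fd000004f6000004f4000004ec000004ea000004dd000004db000004d5000004cc000004c9000004bd000004b4000004ac000004aa000004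a50000049c0000049a000004930000048c000004830000048000000476000004710000046e0000046200000455000004450000043c000004350000042c0000042a00000423000004150000040c0000040400000402000003fd000003f4000003f2000003eb000003e4000003db000003d8000003d3000003d1000003ce000003c2000003ba000003b30000039d000003940000038d000003840000037b000003740000036b00000368000003650000035c0000035a000003530000034c00000343000003400000033b00000339000003320000032a000003230000030b00000308000002fd000002f5000002ec000002e3000002dc000002d3000002d0000002cb000002c9000002c4000002bb000002b8000002b3000002b1000002aa000002a60000028b00000288000002780000027300000271000002650000025c000002540000024b0000024800000243000002410000023a00000233000002310000022a0000022600000223000002100000020b0000020900000200000001f9000001f2000001ed000001e4000001db000001d3000001d1000001ca000001c6000001ba000001b6000001b4000001a8000001a10000019a000001910000018a000001860000017c000001730000016a000001620000015e0000015c000001560000015500000149000001420000013e0000012a00000126000001240000011b000001120000010e000001060000010500000102000000f2000000ee000000ec000000de000000d6000000d5000000ca000000c6000000c5000000c3000000b6000000ae000000ad0000009600000095000000930000008e0000008c0000007600000075000000730000006d000000660000006400000061000000550000004e0000004c00000044000000420000003d00000034000000320000002b000000240000001b0000001800000013000000110000000a0000000600000000)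
/-- the parents -/
noncomputable def tQ : TT := .leaf (nat_lit 0x8540000084e0000084d0000082d0000082a000007f2000007ee000007ed000007eb000007be000007bd000007bb000007b6000007b4000007ac000007a30000078e000007820000077e0000077d0000076c0000075d0000075a00000754000007450000073d0000073b0000072e00000726000007250000070e0000070d0000070b0000070600000704000006ee000006ed000006eb000006e5000006de000006dc000006d9000006d3000006ca000006be000006a6000006a50000069e0000069c00000694000006850000067d0000067b0000066d0000065d0000065b000006540000063e0000063d0000063b000006350000062e0000062c000006290000061d00000616000006140000060c0000060a00000602000005f6000005d6000005d5000005cd000005c6000005c4000005c1000005b5000005a5000005a30000059c0000058d0000058b000005850000057c000005790000056d00000566000005640000055c0000055a000005550000054c0000054a000005430000053600000526000005210000050d000004fd000004f6000004f4000004ec000004ea000004dd000004db000004d5000004cc000004c9000004bd000004b4000004ac000004aa000004a500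00049c0000049a000004930000048c000004830000048000000476000004710000046e0000046200000455000004450000043c000004350000042c0000042a00000423000004150000040c0000040400000402000003fd000003f4000003f2000003eb000003e4000003db000003d8000003d3000003d1000003ce000003c2000003ba000003b30000039d000003940000038d000003840000037b000003740000036b00000368000003650000035c0000035a000003530000034c00000343000003400000033b00000339000003320000032a000003230000030b00000308000002fd000002f5000002ec000002e3000002dc000002d3000002d0000002cb000002c9000002c4000002bb000002b8000002b3000002b1000002aa000002a60000028b00000288000002780000027300000271000002650000025c000002540000024b0000024800000243000002410000023a00000233000002310000022a0000022600000223000002100000020b0000020900000200000001f9000001f2000001ed000001e4000001db000001d3000001d1000001ca000001c6000001ba000001b6000001b4000001a8000001a10000019a000001910000018a000001860000017c000001730000016a000001620000015e0000015c000001560000015500000149000001420000013e0000012a00000126000001240000011b000001120000010e000001060000010500000102000000f2000000ee000000ec000000de000000d6000000d5000000ca000000c6000000c5000000c3000000b6000000ae000000ad0000009600000095000000930000008e0000008c0000007600000075000000730000006d000000660000006400000061000000550000004e0000004c00000044000000420000003d00000034000000320000002b000000240000001b0000001800000013000000110000000a0000000600000000)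
/-- the orbit tables -/
noncomputable def tO : TT := .leaf (nat_lit 0x0)
/-- the rule table -/
noncomputable def rT : RT := .node (nat_lit 159) (.node (nat_lit 79) (.node (nat_lit 39) (.node (nat_lit 19) (.node (nat_lit 9) (.node (nat_lit 4) (.node (nat_lit 2) (.node (nat_lit 1) (.leaf (nat_lit 0) (nat_lit 1) [nat_lit 0, nat_lit 1, nat_lit 0, nat_lit 1, nat_lit 0]) (.leaf (nat_lit 1) (nat_lit 0) [nat_lit 1, nat_lit 0, nat_lit 1, nat_lit 0, nat_lit 1])) (.node (nat_lit 3) (.leaf (nat_lit 0) (nat_lit 1) [nat_lit 0, nat_lit 1, nat_lit 0, nat_lit 1, nat_lit 0]) (.leaf (nat_lit 1) (nat_lit 0) [nat_lit 1, nat_lit 0, nat_lit 1, nat_lit 0, nat_lit 1]))) (.node (nat_lit 6) (.node (nat_lit 5) (.leaf (nat_lit 0) (nat_lit 1) [nat_lit 0, nat_lit 1, nat_lit 0, nat_lit 1, nat_lit 0]) (.leaf (nat_lit 1) (nat_lit 0) [nat_lit 1, nat_lit 0, nat_lit 1, nat_lit 0, nat_lit 1])) (.node (nat_lit 7) (.leaf (nat_lit 1) (nat_lit 0) [nat_lit 1, nat_lit 0, nat_lit 1, nat_lit 0, nat_lit 1]) (.node (nat_lit 8) (.leaf (nat_lit 0) (nat_lit 1) [nat_lit 0, nat_lit 1, nat_lit 0, nat_lit 1, nat_lit 0]) (.leaf (nat_lit 1) (nat_lit 0) [nat_lit 1, nat_lit 0, nat_lit 1, nat_lit 0, nat_lit 1]))))) (.node (nat_lit 14) (.node (nat_lit 11) (.node (nat_lit 10) (.leaf (nat_lit 0) (nat_lit 1) [nat_lit 0, nat_lit 1, nat_lit 0, nat_lit 1, nat_lit 0]) (.leaf (nat_lit 1) (nat_lit 0) [nat_lit 1, nat_lit 0, nat_lit 1, nat_lit 0, nat_lit 1])) (.node (nat_lit 12) (.leaf (nat_lit 0) (nat_lit 1) [nat_lit 0, nat_lit 1, nat_lit 0, nat_lit 1, nat_lit 0]) (.node (nat_lit 13) (.leaf (nat_lit 12) (nat_lit 2) [nat_lit 0, nat_lit 2, nat_lit 0]) (.leaf (nat_lit 13) (nat_lit 0) [nat_lit 2, nat_lit 0, nat_lit 2])))) (.node (nat_lit 16) (.node (nat_lit 15) (.leaf (nat_lit 12) (nat_lit 2) [nat_lit 0, nat_lit 2, nat_lit 0]) (.leaf (nat_lit 13) (nat_lit 0) [nat_lit 2, nat_lit 0, nat_lit 2])) (.node (nat_lit 17) (.leaf (nat_lit 13) (nat_lit 0) [nat_lit 2, nat_lit 0, nat_lit 2]) (.node (nat_lit 18) (.leaf (nat_lit 12) (nat_lit 2) [nat_lit 0, nat_lit 2, nat_lit 0]) (.leaf (nat_lit 13) (nat_lit 0) [nat_lit 2, nat_lit 0, nat_lit 2])))))) (.node (nat_lit 29) (.node (nat_lit 24) (.node (nat_lit 21) (.node (nat_lit 20) (.leaf (nat_lit 12) (nat_lit 2) [nat_lit 0, nat_lit 2, nat_lit 0]) (.leaf (nat_lit 20) (nat_lit 3) [nat_lit 0, nat_lit 3, nat_lit 0])) (.node (nat_lit 22) (.leaf (nat_lit 21) (nat_lit 0) [nat_lit 3, nat_lit 0, nat_lit 3]) (.node (nat_lit 23) (.leaf (nat_lit 20) (nat_lit 3) [nat_lit 0, nat_lit 3, nat_lit 0]) (.leaf (nat_lit 21) (nat_lit 0) [nat_lit 3, nat_lit 0, nat_lit 3])))) (.node (nat_lit 26) (.node (nat_lit 25) (.leaf (nat_lit 21) (nat_lit 0) [nat_lit 3, nat_lit 0, nat_lit 3]) (.leaf (nat_lit 20) (nat_lit 3) [nat_lit 0, nat_lit 3, nat_lit 0])) (.node (nat_lit 27) (.leaf (nat_lit 21) (nat_lit 0) [nat_lit 3, nat_lit 0, nat_lit 3]) (.node (nat_lit 28) (.leaf (nat_lit 20) (nat_lit 3) [nat_lit 0, nat_lit 3, nat_lit 0]) (.leaf (nat_lit 28) (nat_lit 4) [nat_lit 0, nat_lit 4, nat_lit 0]))))) (.node (nat_lit 34) (.node (nat_lit 31) (.node (nat_lit 30) (.leaf (nat_lit 29) (nat_lit 0) [nat_lit 4, nat_lit 0, nat_lit 4]) (.leaf (nat_lit 28) (nat_lit 4) [nat_lit 0, nat_lit 4, nat_lit 0])) (.node (nat_lit 32) (.leaf (nat_lit 29) (nat_lit 0) [nat_lit 4, nat_lit 0, nat_lit 4]) (.node (nat_lit 33) (.leaf (nat_lit 29) (nat_lit 0) [nat_lit 4, nat_lit 0, nat_lit 4]) (.leaf (nat_lit 28) (nat_lit 4) [nat_lit 0, nat_lit 4, nat_lit 0])))) (.node (nat_lit 36) (.node (nat_lit 35) (.leaf (nat_lit 29) (nat_lit 0) [nat_lit 4, nat_lit 0, nat_lit 4]) (.leaf (nat_lit 28) (nat_lit 4) [nat_lit 0, nat_lit 4, nat_lit 0])) (.node (nat_lit 37) (.leaf (nat_lit 36) (nat_lit 5) [nat_lit 0, nat_lit 5, nat_lit 0]) (.node (nat_lit 38) (.leaf (nat_lit 37) (nat_lit 0) [nat_lit 5, nat_lit 0, nat_lit 5]) (.leaf (nat_lit 36) (nat_lit 5) [nat_lit 0, nat_lit 5, nat_lit 0]))))))) (.node (nat_lit 59) (.node (nat_lit 49) (.node (nat_lit 44) (.node (nat_lit 41) (.node (nat_lit 40) (.leaf (nat_lit 37) (nat_lit 0) [nat_lit 5, nat_lit 0, nat_lit 5]) (.leaf (nat_lit 37) (nat_lit 0) [nat_lit 5, nat_lit 0, nat_lit 5])) (.node (nat_lit 42) (.leaf (nat_lit 36) (nat_lit 5) [nat_lit 0, nat_lit 5, nat_lit 0]) (.node (nat_lit 43) (.leaf (nat_lit 37) (nat_lit 0) [nat_lit 5, nat_lit 0, nat_lit 5]) (.leaf (nat_lit 36) (nat_lit 5) [nat_lit 0, nat_lit 5, nat_lit 0])))) (.node (nat_lit 46) (.node (nat_lit 45) (.leaf (nat_lit 44) (nat_lit 6) [nat_lit 0, nat_lit 6, nat_lit 0]) (.leaf (nat_lit 45) (nat_lit 0) [nat_lit 6, nat_lit 0, nat_lit 6])) (.node (nat_lit 47) (.leaf (nat_lit 44) (nat_lit 6) [nat_lit 0, nat_lit 6, nat_lit 0]) (.node (nat_lit 48) (.leaf (nat_lit 45) (nat_lit 0) [nat_lit 6, nat_lit 0, nat_lit 6]) (.leaf (nat_lit 45) (nat_lit 0) [nat_lit 6, nat_lit 0, nat_lit 6]))))) (.node (nat_lit 54) (.node (nat_lit 51) (.node (nat_lit 50) (.leaf (nat_lit 44) (nat_lit 6) [nat_lit 0, nat_lit 6, nat_lit 0]) (.leaf (nat_lit 45) (nat_lit 0) [nat_lit 6, nat_lit 0, nat_lit 6])) (.node (nat_lit 52) (.leaf (nat_lit 44) (nat_lit 6) [nat_lit 0, nat_lit 6, nat_lit 0]) (.node (nat_lit 53) (.leaf (nat_lit 52) (nat_lit 2) [nat_lit 1, nat_lit 2, nat_lit 1, nat_lit 2, nat_lit 1]) (.leaf (nat_lit 53) (nat_lit 1) [nat_lit 2, nat_lit 1, nat_lit 2, nat_lit 1, nat_lit 2])))) (.node (nat_lit 56) (.node (nat_lit 55) (.leaf (nat_lit 52) (nat_lit 2) [nat_lit 1, nat_lit 2, nat_lit 1, nat_lit 2, nat_lit 1]) (.leaf (nat_lit 53) (nat_lit 1) [nat_lit 2, nat_lit 1, nat_lit 2, nat_lit 1, nat_lit 2])) (.node (nat_lit 57) (.leaf (nat_lit 52) (nat_lit 2) [nat_lit 1, nat_lit 2, nat_lit 1, nat_lit 2, nat_lit 1]) (.node (nat_lit 58) (.leaf (nat_lit 53) (nat_lit 1) [nat_lit 2, nat_lit 1, nat_lit 2, nat_lit 1, nat_lit 2]) (.leaf (nat_lit 53) (nat_lit 1) [nat_lit 2, nat_lit 1, nat_lit 2, nat_lit 1, nat_lit 2])))))) (.node (nat_lit 69) (.node (nat_lit 64) (.node (nat_lit 61) (.node (nat_lit 60) (.leaf (nat_lit 52) (nat_lit 2) [nat_lit 1, nat_lit 2, nat_lit 1, nat_lit 2, nat_lit 1]) (.leaf (nat_lit 53) (nat_lit 1) [nat_lit 2, nat_lit 1, nat_lit 2, nat_lit 1, nat_lit 2])) (.node (nat_lit 62) (.leaf (nat_lit 52) (nat_lit 2) [nat_lit 1, nat_lit 2, nat_lit 1, nat_lit 2, nat_lit 1]) (.node (nat_lit 63) (.leaf (nat_lit 53) (nat_lit 1) [nat_lit 2, nat_lit 1, nat_lit 2, nat_lit 1, nat_lit 2]) (.leaf (nat_lit 52) (nat_lit 2) [nat_lit 1, nat_lit 2, nat_lit 1, nat_lit 2, nat_lit 1])))) (.node (nat_lit 66) (.node (nat_lit 65) (.leaf (nat_lit 64) (nat_lit 3) [nat_lit 1, nat_lit 3, nat_lit 1]) (.leaf (nat_lit 65) (nat_lit 1) [nat_lit 3, nat_lit 1, nat_lit 3])) (.node (nat_lit 67) (.leaf (nat_lit 64) (nat_lit 3) [nat_lit 1, nat_lit 3, nat_lit 1]) (.node (nat_lit 68) (.leaf (nat_lit 65) (nat_lit 1) [nat_lit 3, nat_lit 1, nat_lit 3]) (.leaf (nat_lit 65) (nat_lit 1) [nat_lit 3, nat_lit 1, nat_lit 3]))))) (.node (nat_lit 74) (.node (nat_lit 71) (.node (nat_lit 70) (.leaf (nat_lit 64) (nat_lit 3) [nat_lit 1, nat_lit 3, nat_lit 1]) (.leaf (nat_lit 65) (nat_lit 1) [nat_lit 3, nat_lit 1, nat_lit 3])) (.node (nat_lit 72) (.leaf (nat_lit 64) (nat_lit 3) [nat_lit 1, nat_lit 3, nat_lit 1]) (.node (nat_lit 73) (.leaf (nat_lit 72) (nat_lit 4) [nat_lit 1, nat_lit 4, nat_lit 1]) (.leaf (nat_lit 73) (nat_lit 1) [nat_lit 4, nat_lit 1, nat_lit 4])))) (.node (nat_lit 76) (.node (nat_lit 75) (.leaf (nat_lit 72) (nat_lit 4) [nat_lit 1, nat_lit 4, nat_lit 1]) (.leaf (nat_lit 73) (nat_lit 1) [nat_lit 4, nat_lit 1, nat_lit 4])) (.node (nat_lit 77) (.leaf (nat_lit 73) (nat_lit 1) [nat_lit 4, nat_lit 1, nat_lit 4]) (.node (nat_lit 78) (.leaf (nat_lit 72) (nat_lit 4) [nat_lit 1, nat_lit 4, nat_lit 1]) (.leaf (nat_lit 73) (nat_lit 1) [nat_lit 4, nat_lit 1, nat_lit 4])))))))) (.node (nat_lit 119) (.node (nat_lit 99) (.node (nat_lit 89) (.node (nat_lit 84) (.node (nat_lit 81) (.node (nat_lit 80) (.leaf (nat_lit 72) (nat_lit 4) [nat_lit 1, nat_lit 4, nat_lit 1]) (.leaf (nat_lit 80) (nat_lit 5) [nat_lit 1, nat_lit 5, nat_lit 1])) (.node (nat_lit 82) (.leaf (nat_lit 81) (nat_lit 1) [nat_lit 5, nat_lit 1, nat_lit 5]) (.node (nat_lit 83) (.leaf (nat_lit 80) (nat_lit 5) [nat_lit 1, nat_lit 5, nat_lit 1]) (.leaf (nat_lit 81) (nat_lit 1) [nat_lit 5, nat_lit 1, nat_lit 5])))) (.node (nat_lit 86) (.node (nat_lit 85) (.leaf (nat_lit 81) (nat_lit 1) [nat_lit 5, nat_lit 1, nat_lit 5]) (.leaf (nat_lit 80) (nat_lit 5) [nat_lit 1, nat_lit 5, nat_lit 1])) (.node (nat_lit 87) (.leaf (nat_lit 81) (nat_lit 1) [nat_lit 5, nat_lit 1, nat_lit 5]) (.node (nat_lit 88) (.leaf (nat_lit 80) (nat_lit 5) [nat_lit 1, nat_lit 5, nat_lit 1]) (.leaf (nat_lit 88) (nat_lit 6) [nat_lit 1, nat_lit 6, nat_lit 1]))))) (.node (nat_lit 94) (.node (nat_lit 91) (.node (nat_lit 90) (.leaf (nat_lit 89) (nat_lit 1) [nat_lit 6, nat_lit 1, nat_lit 6]) (.leaf (nat_lit 88) (nat_lit 6) [nat_lit 1, nat_lit 6, nat_lit 1])) (.node (nat_lit 92) (.leaf (nat_lit 89) (nat_lit 1) [nat_lit 6, nat_lit 1, nat_lit 6]) (.node (nat_lit 93) (.leaf (nat_lit 89) (nat_lit 1) [nat_lit 6, nat_lit 1, nat_lit 6]) (.leaf (nat_lit 88) (nat_lit 6) [nat_lit 1, nat_lit 6, nat_lit 1])))) (.node (nat_lit 96) (.node (nat_lit 95) (.leaf (nat_lit 89) (nat_lit 1) [nat_lit 6, nat_lit 1, nat_lit 6]) (.leaf (nat_lit 88) (nat_lit 6) [nat_lit 1, nat_lit 6, nat_lit 1])) (.node (nat_lit 97) (.leaf (nat_lit 96) (nat_lit 3) [nat_lit 2, nat_lit 3, nat_lit 2, nat_lit 3, nat_lit 2]) (.node (nat_lit 98) (.leaf (nat_lit 97) (nat_lit 2) [nat_lit 3, nat_lit 2, nat_lit 3, nat_lit 2, nat_lit 3]) (.leaf (nat_lit 96) (nat_lit 3) [nat_lit 2, nat_lit 3, nat_lit 2, nat_lit 3, nat_lit 2])))))) (.node (nat_lit 109) (.node (nat_lit 104) (.node (nat_lit 101) (.node (nat_lit 100) (.leaf (nat_lit 97) (nat_lit 2) [nat_lit 3, nat_lit 2, nat_lit 3, nat_lit 2, nat_lit 3]) (.leaf (nat_lit 96) (nat_lit 3) [nat_lit 2, nat_lit 3, nat_lit 2, nat_lit 3, nat_lit 2])) (.node (nat_lit 102) (.leaf (nat_lit 97) (nat_lit 2) [nat_lit 3, nat_lit 2, nat_lit 3, nat_lit 2, nat_lit 3]) (.node (nat_lit 103) (.leaf (nat_lit 97) (nat_lit 2) [nat_lit 3, nat_lit 2, nat_lit 3, nat_lit 2, nat_lit 3]) (.leaf (nat_lit 96) (nat_lit 3) [nat_lit 2, nat_lit 3, nat_lit 2, nat_lit 3, nat_lit 2])))) (.node (nat_lit 106) (.node (nat_lit 105) (.leaf (nat_lit 97) (nat_lit 2) [nat_lit 3, nat_lit 2, nat_lit 3, nat_lit 2, nat_lit 3]) (.leaf (nat_lit 96) (nat_lit 3) [nat_lit 2, nat_lit 3, nat_lit 2, nat_lit 3, nat_lit 2])) (.node (nat_lit 107) (.leaf (nat_lit 97) (nat_lit 2) [nat_lit 3, nat_lit 2, nat_lit 3, nat_lit 2, nat_lit 3]) (.node (nat_lit 108) (.leaf (nat_lit 96) (nat_lit 3) [nat_lit 2, nat_lit 3, nat_lit 2, nat_lit 3, nat_lit 2]) (.leaf (nat_lit 108) (nat_lit 4) [nat_lit 2, nat_lit 4, nat_lit 2]))))) (.node (nat_lit 114) (.node (nat_lit 111) (.node (nat_lit 110) (.leaf (nat_lit 109) (nat_lit 2) [nat_lit 4, nat_lit 2, nat_lit 4]) (.leaf (nat_lit 108) (nat_lit 4) [nat_lit 2, nat_lit 4, nat_lit 2])) (.node (nat_lit 112) (.leaf (nat_lit 109) (nat_lit 2) [nat_lit 4, nat_lit 2, nat_lit 4]) (.node (nat_lit 113) (.leaf (nat_lit 109) (nat_lit 2) [nat_lit 4, nat_lit 2, nat_lit 4]) (.leaf (nat_lit 108) (nat_lit 4) [nat_lit 2, nat_lit 4, nat_lit 2])))) (.node (nat_lit 116) (.node (nat_lit 115) (.leaf (nat_lit 109) (nat_lit 2) [nat_lit 4, nat_lit 2, nat_lit 4]) (.leaf (nat_lit 108) (nat_lit 4) [nat_lit 2, nat_lit 4, nat_lit 2])) (.node (nat_lit 117) (.leaf (nat_lit 116) (nat_lit 5) [nat_lit 2, nat_lit 5, nat_lit 2]) (.node (nat_lit 118) (.leaf (nat_lit 117) (nat_lit 2) [nat_lit 5, nat_lit 2, nat_lit 5]) (.leaf (nat_lit 116) (nat_lit 5) [nat_lit 2, nat_lit 5, nat_lit 2]))))))) (.node (nat_lit 139) (.node (nat_lit 129) (.node (nat_lit 124) (.node (nat_lit 121) (.node (nat_lit 120) (.leaf (nat_lit 117) (nat_lit 2) [nat_lit 5, nat_lit 2, nat_lit 5]) (.leaf (nat_lit 117) (nat_lit 2) [nat_lit 5, nat_lit 2, nat_lit 5])) (.node (nat_lit 122) (.leaf (nat_lit 116) (nat_lit 5) [nat_lit 2, nat_lit 5, nat_lit 2]) (.node (nat_lit 123) (.leaf (nat_lit 117) (nat_lit 2) [nat_lit 5, nat_lit 2, nat_lit 5]) (.leaf (nat_lit 116) (nat_lit 5) [nat_lit 2, nat_lit 5, nat_lit 2])))) (.node (nat_lit 126) (.node (nat_lit 125) (.leaf (nat_lit 124) (nat_lit 6) [nat_lit 2, nat_lit 6, nat_lit 2, nat_lit 6, nat_lit 2]) (.leaf (nat_lit 125) (nat_lit 2) [nat_lit 6, nat_lit 2, nat_lit 6, nat_lit 2, nat_lit 6])) (.node (nat_lit 127) (.leaf (nat_lit 124) (nat_lit 6) [nat_lit 2, nat_lit 6, nat_lit 2, nat_lit 6, nat_lit 2]) (.node (nat_lit 128) (.leaf (nat_lit 125) (nat_lit 2) [nat_lit 6, nat_lit 2, nat_lit 6, nat_lit 2, nat_lit 6]) (.leaf (nat_lit 124) (nat_lit 6) [nat_lit 2, nat_lit 6, nat_lit 2, nat_lit 6, nat_lit 2]))))) (.node (nat_lit 134) (.node (nat_lit 131) (.node (nat_lit 130) (.leaf (nat_lit 125) (nat_lit 2) [nat_lit 6, nat_lit 2, nat_lit 6, nat_lit 2, nat_lit 6]) (.leaf (nat_lit 125) (nat_lit 2) [nat_lit 6, nat_lit 2, nat_lit 6, nat_lit 2, nat_lit 6])) (.node (nat_lit 132) (.leaf (nat_lit 124) (nat_lit 6) [nat_lit 2, nat_lit 6, nat_lit 2, nat_lit 6, nat_lit 2]) (.node (nat_lit 133) (.leaf (nat_lit 125) (nat_lit 2) [nat_lit 6, nat_lit 2, nat_lit 6, nat_lit 2, nat_lit 6]) (.leaf (nat_lit 124) (nat_lit 6) [nat_lit 2, nat_lit 6, nat_lit 2, nat_lit 6, nat_lit 2])))) (.node (nat_lit 136) (.node (nat_lit 135) (.leaf (nat_lit 125) (nat_lit 2) [nat_lit 6, nat_lit 2, nat_lit 6, nat_lit 2, nat_lit 6]) (.leaf (nat_lit 124) (nat_lit 6) [nat_lit 2, nat_lit 6, nat_lit 2, nat_lit 6, nat_lit 2])) (.node (nat_lit 137) (.leaf (nat_lit 136) (nat_lit 4) [nat_lit 3, nat_lit 4, nat_lit 3, nat_lit 4, nat_lit 3]) (.node (nat_lit 138) (.leaf (nat_lit 137) (nat_lit 3) [nat_lit 4, nat_lit 3, nat_lit 4, nat_lit 3, nat_lit 4]) (.leaf (nat_lit 136) (nat_lit 4) [nat_lit 3, nat_lit 4, nat_lit 3, nat_lit 4, nat_lit 3])))))) (.node (nat_lit 149) (.node (nat_lit 144) (.node (nat_lit 141) (.node (nat_lit 140) (.leaf (nat_lit 137) (nat_lit 3) [nat_lit 4, nat_lit 3, nat_lit 4, nat_lit 3, nat_lit 4]) (.leaf (nat_lit 136) (nat_lit 4) [nat_lit 3, nat_lit 4, nat_lit 3, nat_lit 4, nat_lit 3])) (.node (nat_lit 142) (.leaf (nat_lit 137) (nat_lit 3) [nat_lit 4, nat_lit 3, nat_lit 4, nat_lit 3, nat_lit 4]) (.node (nat_lit 143) (.leaf (nat_lit 137) (nat_lit 3) [nat_lit 4, nat_lit 3, nat_lit 4, nat_lit 3, nat_lit 4]) (.leaf (nat_lit 136) (nat_lit 4) [nat_lit 3, nat_lit 4, nat_lit 3, nat_lit 4, nat_lit 3])))) (.node (nat_lit 146) (.node (nat_lit 145) (.leaf (nat_lit 137) (nat_lit 3) [nat_lit 4, nat_lit 3, nat_lit 4, nat_lit 3, nat_lit 4]) (.leaf (nat_lit 136) (nat_lit 4) [nat_lit 3, nat_lit 4, nat_lit 3, nat_lit 4, nat_lit 3])) (.node (nat_lit 147) (.leaf (nat_lit 137) (nat_lit 3) [nat_lit 4, nat_lit 3, nat_lit 4, nat_lit 3, nat_lit 4]) (.node (nat_lit 148) (.leaf (nat_lit 136) (nat_lit 4) [nat_lit 3, nat_lit 4, nat_lit 3, nat_lit 4, nat_lit 3]) (.leaf (nat_lit 148) (nat_lit 5) [nat_lit 3, nat_lit 5, nat_lit 3]))))) (.node (nat_lit 154) (.node (nat_lit 151) (.node (nat_lit 150) (.leaf (nat_lit 149) (nat_lit 3) [nat_lit 5, nat_lit 3, nat_lit 5]) (.leaf (nat_lit 148) (nat_lit 5) [nat_lit 3, nat_lit 5, nat_lit 3])) (.node (nat_lit 152) (.leaf (nat_lit 149) (nat_lit 3) [nat_lit 5, nat_lit 3, nat_lit 5]) (.node (nat_lit 153) (.leaf (nat_lit 149) (nat_lit 3) [nat_lit 5, nat_lit 3, nat_lit 5]) (.leaf (nat_lit 148) (nat_lit 5) [nat_lit 3, nat_lit 5, nat_lit 3])))) (.node (nat_lit 156) (.node (nat_lit 155) (.leaf (nat_lit 149) (nat_lit 3) [nat_lit 5, nat_lit 3, nat_lit 5]) (.leaf (nat_lit 148) (nat_lit 5) [nat_lit 3, nat_lit 5, nat_lit 3])) (.node (nat_lit 157) (.leaf (nat_lit 156) (nat_lit 6) [nat_lit 3, nat_lit 6, nat_lit 3]) (.node (nat_lit 158) (.leaf (nat_lit 157) (nat_lit 3) [nat_lit 6, nat_lit 3, nat_lit 6]) (.leaf (nat_lit 156) (nat_lit 6) [nat_lit 3, nat_lit 6, nat_lit 3]))))))))) (.node (nat_lit 238) (.node (nat_lit 198) (.node (nat_lit 178) (.node (nat_lit 168) (.node (nat_lit 163) (.node (nat_lit 161) (.node (nat_lit 160) (.leaf (nat_lit 157) (nat_lit 3) [nat_lit 6, nat_lit 3, nat_lit 6]) (.leaf (nat_lit 157) (nat_lit 3) [nat_lit 6, nat_lit 3, nat_lit 6])) (.node (nat_lit 162) (.leaf (nat_lit 156) (nat_lit 6) [nat_lit 3, nat_lit 6, nat_lit 3]) (.leaf (nat_lit 157) (nat_lit 3) [nat_lit 6, nat_lit 3, nat_lit 6]))) (.node (nat_lit 165) (.node (nat_lit 164) (.leaf (nat_lit 156) (nat_lit 6) [nat_lit 3, nat_lit 6, nat_lit 3]) (.leaf (nat_lit 164) (nat_lit 5) [nat_lit 4, nat_lit 5, nat_lit 4, nat_lit 5, nat_lit 4])) (.node (nat_lit 166) (.leaf (nat_lit 165) (nat_lit 4) [nat_lit 5, nat_lit 4, nat_lit 5, nat_lit 4, nat_lit 5]) (.node (nat_lit 167) (.leaf (nat_lit 164) (nat_lit 5) [nat_lit 4, nat_lit 5, nat_lit 4, nat_lit 5, nat_lit 4]) (.leaf (nat_lit 165) (nat_lit 4) [nat_lit 5, nat_lit 4, nat_lit 5, nat_lit 4, nat_lit 5]))))) (.node (nat_lit 173) (.node (nat_lit 170) (.node (nat_lit 169) (.leaf (nat_lit 164) (nat_lit 5) [nat_lit 4, nat_lit 5, nat_lit 4, nat_lit 5, nat_lit 4]) (.leaf (nat_lit 165) (nat_lit 4) [nat_lit 5, nat_lit 4, nat_lit 5, nat_lit 4, nat_lit 5])) (.node (nat_lit 171) (.leaf (nat_lit 165) (nat_lit 4) [nat_lit 5, nat_lit 4, nat_lit 5, nat_lit 4, nat_lit 5]) (.node (nat_lit 172) (.leaf (nat_lit 164) (nat_lit 5) [nat_lit 4, nat_lit 5, nat_lit 4, nat_lit 5, nat_lit 4]) (.leaf (nat_lit 165) (nat_lit 4) [nat_lit 5, nat_lit 4, nat_lit 5, nat_lit 4, nat_lit 5])))) (.node (nat_lit 175) (.node (nat_lit 174) (.leaf (nat_lit 164) (nat_lit 5) [nat_lit 4, nat_lit 5, nat_lit 4, nat_lit 5, nat_lit 4]) (.leaf (nat_lit 165) (nat_lit 4) [nat_lit 5, nat_lit 4, nat_lit 5, nat_lit 4, nat_lit 5])) (.node (nat_lit 176) (.leaf (nat_lit 164) (nat_lit 5) [nat_lit 4, nat_lit 5, nat_lit 4, nat_lit 5, nat_lit 4]) (.node (nat_lit 177) (.leaf (nat_lit 176) (nat_lit 6) [nat_lit 4, nat_lit 6, nat_lit 4]) (.leaf (nat_lit 177) (nat_lit 4) [nat_lit 6, nat_lit 4, nat_lit 6])))))) (.node (nat_lit 188) (.node (nat_lit 183) (.node (nat_lit 180) (.node (nat_lit 179) (.leaf (nat_lit 176) (nat_lit 6) [nat_lit 4, nat_lit 6, nat_lit 4]) (.leaf (nat_lit 177) (nat_lit 4) [nat_lit 6, nat_lit 4, nat_lit 6])) (.node (nat_lit 181) (.leaf (nat_lit 177) (nat_lit 4) [nat_lit 6, nat_lit 4, nat_lit 6]) (.node (nat_lit 182) (.leaf (nat_lit 176) (nat_lit 6) [nat_lit 4, nat_lit 6, nat_lit 4]) (.leaf (nat_lit 177) (nat_lit 4) [nat_lit 6, nat_lit 4, nat_lit 6])))) (.node (nat_lit 185) (.node (nat_lit 184) (.leaf (nat_lit 176) (nat_lit 6) [nat_lit 4, nat_lit 6, nat_lit 4]) (.leaf (nat_lit 184) (nat_lit 6) [nat_lit 5, nat_lit 6, nat_lit 5])) (.node (nat_lit 186) (.leaf (nat_lit 185) (nat_lit 5) [nat_lit 6, nat_lit 5, nat_lit 6]) (.node (nat_lit 187) (.leaf (nat_lit 184) (nat_lit 6) [nat_lit 5, nat_lit 6, nat_lit 5]) (.leaf (nat_lit 185) (nat_lit 5) [nat_lit 6, nat_lit 5, nat_lit 6]))))) (.node (nat_lit 193) (.node (nat_lit 190) (.node (nat_lit 189) (.leaf (nat_lit 185) (nat_lit 5) [nat_lit 6, nat_lit 5, nat_lit 6]) (.leaf (nat_lit 184) (nat_lit 6) [nat_lit 5, nat_lit 6, nat_lit 5])) (.node (nat_lit 191) (.leaf (nat_lit 185) (nat_lit 5) [nat_lit 6, nat_lit 5, nat_lit 6]) (.node (nat_lit 192) (.leaf (nat_lit 184) (nat_lit 6) [nat_lit 5, nat_lit 6, nat_lit 5]) (.leaf (nat_lit 192) (nat_lit 6) [nat_lit 0, nat_lit 1, nat_lit 2, nat_lit 3, nat_lit 4, nat_lit 5, nat_lit 6, nat_lit 0, nat_lit 1, nat_lit 2, nat_lit 3, nat_lit 4, nat_lit 5, nat_lit 6, nat_lit 0, nat_lit 1, nat_lit 2, nat_lit 3, nat_lit 4, nat_lit 5, nat_lit 6, nat_lit 0, nat_lit 1, nat_lit 2, nat_lit 3, nat_lit 4, nat_lit 5, nat_lit 6, nat_lit 0, nat_lit 1, nat_lit 2, nat_lit 3, nat_lit 4, nat_lit 5, nat_lit 6, nat_lit 0, nat_lit 1, nat_lit 2, nat_lit 3, nat_lit 4, nat_lit 5, nat_lit 6, nat_lit 0, nat_lit 1, nat_lit 2, nat_lit 3, nat_lit 4, nat_lit 5, nat_lit 6, nat_lit 0, nat_lit 1, nat_lit 2, nat_lit 3, nat_lit 4, nat_lit 5, nat_lit 6, nat_lit 0, nat_lit 1, nat_lit 2, nat_lit 3, nat_lit 4, nat_lit 5])))) (.node (nat_lit 195) (.node (nat_lit 194) (.leaf (nat_lit 193) (nat_lit 5) [nat_lit 6, nat_lit 0, nat_lit 1, nat_lit 2, nat_lit 3, nat_lit 4, nat_lit 5, nat_lit 6, nat_lit 0, nat_lit 1, nat_lit 2, nat_lit 3, nat_lit 4, nat_lit 5, nat_lit 6, nat_lit 0, nat_lit 1, nat_lit 2, nat_lit 3, nat_lit 4, nat_lit 5, nat_lit 6, nat_lit 0, nat_lit 1, nat_lit 2, nat_lit 3, nat_lit 4, nat_lit 5, nat_lit 6, nat_lit 0, nat_lit 1, nat_lit 2, nat_lit 3, nat_lit 4, nat_lit 5, nat_lit 6, nat_lit 0, nat_lit 1, nat_lit 2, nat_lit 3, nat_lit 4, nat_lit 5, nat_lit 6, nat_lit 0, nat_lit 1, nat_lit 2, nat_lit 3, nat_lit 4, nat_lit 5, nat_lit 6, nat_lit 0, nat_lit 1, nat_lit 2, nat_lit 3, nat_lit 4, nat_lit 5, nat_lit 6, nat_lit 0, nat_lit 1, nat_lit 2, nat_lit 3, nat_lit 4]) (.leaf (nat_lit 194) (nat_lit 4) [nat_lit 5, nat_lit 6, nat_lit 0, nat_lit 1, nat_lit 2, nat_lit 3, nat_lit 4, nat_lit 5, nat_lit 6, nat_lit 0, nat_lit 1, nat_lit 2, nat_lit 3, nat_lit 4, nat_lit 5, nat_lit 6, nat_lit 0, nat_lit 1, nat_lit 2, nat_lit 3, nat_lit 4, nat_lit 5, nat_lit 6, nat_lit 0, nat_lit 1, nat_lit 2, nat_lit 3, nat_lit 4, nat_lit 5, nat_lit 6, nat_lit 0, nat_lit 1, nat_lit 2, nat_lit 3, nat_lit 4, nat_lit 5, nat_lit 6, nat_lit 0, nat_lit 1, nat_lit 2, nat_lit 3, nat_lit 4, nat_lit 5, nat_lit 6, nat_lit 0, nat_lit 1, nat_lit 2, nat_lit 3, nat_lit 4, nat_lit 5, nat_lit 6, nat_lit 0, nat_lit 1, nat_lit 2, nat_lit 3, nat_lit 4, nat_lit 5, nat_lit 6, nat_lit 0, nat_lit 1, nat_lit 2, nat_lit 3])) (.node (nat_lit 196) (.leaf (nat_lit 195) (nat_lit 3) [nat_lit 4, nat_lit 5, nat_lit 6, nat_lit 0, nat_lit 1, nat_lit 2, nat_lit 3, nat_lit 4, nat_lit 5, nat_lit 6, nat_lit 0, nat_lit 1, nat_lit 2, nat_lit 3, nat_lit 4, nat_lit 5, nat_lit 6, nat_lit 0, nat_lit 1, nat_lit 2, nat_lit 3, nat_lit 4, nat_lit 5, nat_lit 6, nat_lit 0, nat_lit 1, nat_lit 2, nat_lit 3, nat_lit 4, nat_lit 5, nat_lit 6, nat_lit 0, nat_lit 1, nat_lit 2, nat_lit 3, nat_lit 4, nat_lit 5, nat_lit 6, nat_lit 0, nat_lit 1, nat_lit 2, nat_lit 3, nat_lit 4, nat_lit 5, nat_lit 6, nat_lit 0, nat_lit 1, nat_lit 2, nat_lit 3, nat_lit 4, nat_lit 5, nat_lit 6, nat_lit 0, nat_lit 1, nat_lit 2, nat_lit 3, nat_lit 4, nat_lit 5, nat_lit 6, nat_lit 0, nat_lit 1, nat_lit 2]) (.node (nat_lit 197) (.leaf (nat_lit 196) (nat_lit 2) [nat_lit 3, nat_lit 4, nat_lit 5, nat_lit 6, nat_lit 0, nat_lit 1, nat_lit 2, nat_lit 3, nat_lit 4, nat_lit 5, nat_lit 6, nat_lit 0, nat_lit 1, nat_lit 2, nat_lit 3, nat_lit 4, nat_lit 5, nat_lit 6, nat_lit 0, nat_lit 1, nat_lit 2, nat_lit 3, nat_lit 4, nat_lit 5, nat_lit 6, nat_lit 0, nat_lit 1, nat_lit 2, nat_lit 3, nat_lit 4, nat_lit 5, nat_lit 6, nat_lit 0, nat_lit 1, nat_lit 2, nat_lit 3, nat_lit 4, nat_lit 5, nat_lit 6, nat_lit 0, nat_lit 1, nat_lit 2, nat_lit 3, nat_lit 4, nat_lit 5, nat_lit 6, nat_lit 0, nat_lit 1, nat_lit 2, nat_lit 3, nat_lit 4, nat_lit 5, nat_lit 6, nat_lit 0, nat_lit 1, nat_lit 2, nat_lit 3, nat_lit 4, nat_lit 5, nat_lit 6, nat_lit 0, nat_lit 1]) (.leaf (nat_lit 197) (nat_lit 1) [nat_lit 2, nat_lit 3, nat_lit 4, nat_lit 5, nat_lit 6, nat_lit 0, nat_lit 1, nat_lit 2, nat_lit 3, nat_lit 4, nat_lit 5, nat_lit 6, nat_lit 0, nat_lit 1, nat_lit 2, nat_lit 3, nat_lit 4, nat_lit 5, nat_lit 6, nat_lit 0, nat_lit 1, nat_lit 2, nat_lit 3, nat_lit 4, nat_lit 5, nat_lit 6, nat_lit 0, nat_lit 1, nat_lit 2, nat_lit 3, nat_lit 4, nat_lit 5, nat_lit 6, nat_lit 0, nat_lit 1, nat_lit 2, nat_lit 3, nat_lit 4, nat_lit 5, nat_lit 6, nat_lit 0, nat_lit 1, nat_lit 2, nat_lit 3, nat_lit 4, nat_lit 5, nat_lit 6, nat_lit 0, nat_lit 1, nat_lit 2, nat_lit 3, nat_lit 4, nat_lit 5, nat_lit 6, nat_lit 0, nat_lit 1, nat_lit 2, nat_lit 3, nat_lit 4, nat_lit 5, nat_lit 6, nat_lit 0]))))))) (.node (nat_lit 218) (.node (nat_lit 208) (.node (nat_lit 203) (.node (nat_lit 200) (.node (nat_lit 199) (.leaf (nat_lit 198) (nat_lit 0) [nat_lit 1, nat_lit 2, nat_lit 3, nat_lit 4, nat_lit 5, nat_lit 6, nat_lit 0, nat_lit 1, nat_lit 2, nat_lit 3, nat_lit 4, nat_lit 5, nat_lit 6, nat_lit 0, nat_lit 1, nat_lit 2, nat_lit 3, nat_lit 4, nat_lit 5, nat_lit 6, nat_lit 0, nat_lit 1, nat_lit 2, nat_lit 3, nat_lit 4, nat_lit 5, nat_lit 6, nat_lit 0, nat_lit 1, nat_lit 2, nat_lit 3, nat_lit 4, nat_lit 5, nat_lit 6, nat_lit 0, nat_lit 1, nat_lit 2, nat_lit 3, nat_lit 4, nat_lit 5, nat_lit 6, nat_lit 0, nat_lit 1, nat_lit 2, nat_lit 3, nat_lit 4, nat_lit 5, nat_lit 6, nat_lit 0, nat_lit 1, nat_lit 2, nat_lit 3, nat_lit 4, nat_lit 5, nat_lit 6, nat_lit 0, nat_lit 1, nat_lit 2, nat_lit 3, nat_lit 4, nat_lit 5, nat_lit 6]) (.leaf (nat_lit 192) (nat_lit 6) [nat_lit 0, nat_lit 1, nat_lit 2, nat_lit 3, nat_lit 4, nat_lit 5, nat_lit 6, nat_lit 0, nat_lit 1, nat_lit 2, nat_lit 3, nat_lit 4, nat_lit 5, nat_lit 6, nat_lit 0, nat_lit 1, nat_lit 2, nat_lit 3, nat_lit 4, nat_lit 5, nat_lit 6, nat_lit 0, nat_lit 1, nat_lit 2, nat_lit 3, nat_lit 4, nat_lit 5, nat_lit 6, nat_lit 0, nat_lit 1, nat_lit 2, nat_lit 3, nat_lit 4, nat_lit 5, nat_lit 6, nat_lit 0, nat_lit 1, nat_lit 2, nat_lit 3, nat_lit 4, nat_lit 5, nat_lit 6, nat_lit 0, nat_lit 1, nat_lit 2, nat_lit 3, nat_lit 4, nat_lit 5, nat_lit 6, nat_lit 0, nat_lit 1, nat_lit 2, nat_lit 3, nat_lit 4, nat_lit 5, nat_lit 6, nat_lit 0, nat_lit 1, nat_lit 2, nat_lit 3, nat_lit 4, nat_lit 5])) (.node (nat_lit 201) (.leaf (nat_lit 193) (nat_lit 5) [nat_lit 6, nat_lit 0, nat_lit 1, nat_lit 2, nat_lit 3, nat_lit 4, nat_lit 5, nat_lit 6, nat_lit 0, nat_lit 1, nat_lit 2, nat_lit 3, nat_lit 4, nat_lit 5, nat_lit 6, nat_lit 0, nat_lit 1, nat_lit 2, nat_lit 3, nat_lit 4, nat_lit 5, nat_lit 6, nat_lit 0, nat_lit 1, nat_lit 2, nat_lit 3, nat_lit 4, nat_lit 5, nat_lit 6, nat_lit 0, nat_lit 1, nat_lit 2, nat_lit 3, nat_lit 4, nat_lit 5, nat_lit 6, nat_lit 0, nat_lit 1, nat_lit 2, nat_lit 3, nat_lit 4, nat_lit 5, nat_lit 6, nat_lit 0, nat_lit 1, nat_lit 2, nat_lit 3, nat_lit 4, nat_lit 5, nat_lit 6, nat_lit 0, nat_lit 1, nat_lit 2, nat_lit 3, nat_lit 4, nat_lit 5, nat_lit 6, nat_lit 0, nat_lit 1, nat_lit 2, nat_lit 3, nat_lit 4]) (.node (nat_lit 202) (.leaf (nat_lit 194) (nat_lit 4) [nat_lit 5, nat_lit 6, nat_lit 0, nat_lit 1, nat_lit 2, nat_lit 3, nat_lit 4, nat_lit 5, nat_lit 6, nat_lit 0, nat_lit 1, nat_lit 2, nat_lit 3, nat_lit 4, nat_lit 5, nat_lit 6, nat_lit 0, nat_lit 1, nat_lit 2, nat_lit 3, nat_lit 4, nat_lit 5, nat_lit 6, nat_lit 0, nat_lit 1, nat_lit 2, nat_lit 3, nat_lit 4, nat_lit 5, nat_lit 6, nat_lit 0, nat_lit 1, nat_lit 2, nat_lit 3, nat_lit 4, nat_lit 5, nat_lit 6, nat_lit 0, nat_lit 1, nat_lit 2, nat_lit 3, nat_lit 4, nat_lit 5, nat_lit 6, nat_lit 0, nat_lit 1, nat_lit 2, nat_lit 3, nat_lit 4, nat_lit 5, nat_lit 6, nat_lit 0, nat_lit 1, nat_lit 2, nat_lit 3, nat_lit 4, nat_lit 5, nat_lit 6, nat_lit 0, nat_lit 1, nat_lit 2, nat_lit 3]) (.leaf (nat_lit 195) (nat_lit 3) [nat_lit 4, nat_lit 5, nat_lit 6, nat_lit 0, nat_lit 1, nat_lit 2, nat_lit 3, nat_lit 4, nat_lit 5, nat_lit 6, nat_lit 0, nat_lit 1, nat_lit 2, nat_lit 3, nat_lit 4, nat_lit 5, nat_lit 6, nat_lit 0, nat_lit 1, nat_lit 2, nat_lit 3, nat_lit 4, nat_lit 5, nat_lit 6, nat_lit 0, nat_lit 1, nat_lit 2, nat_lit 3, nat_lit 4, nat_lit 5, nat_lit 6, nat_lit 0, nat_lit 1, nat_lit 2, nat_lit 3, nat_lit 4, nat_lit 5, nat_lit 6, nat_lit 0, nat_lit 1, nat_lit 2, nat_lit 3, nat_lit 4, nat_lit 5, nat_lit 6, nat_lit 0, nat_lit 1, nat_lit 2, nat_lit 3, nat_lit 4, nat_lit 5, nat_lit 6, nat_lit 0, nat_lit 1, nat_lit 2, nat_lit 3, nat_lit 4, nat_lit 5, nat_lit 6, nat_lit 0, nat_lit 1, nat_lit 2])))) (.node (nat_lit 205) (.node (nat_lit 204) (.leaf (nat_lit 196) (nat_lit 2) [nat_lit 3, nat_lit 4, nat_lit 5, nat_lit 6, nat_lit 0, nat_lit 1, nat_lit 2, nat_lit 3, nat_lit 4, nat_lit 5, nat_lit 6, nat_lit 0, nat_lit 1, nat_lit 2, nat_lit 3, nat_lit 4, nat_lit 5, nat_lit 6, nat_lit 0, nat_lit 1, nat_lit 2, nat_lit 3, nat_lit 4, nat_lit 5, nat_lit 6, nat_lit 0, nat_lit 1, nat_lit 2, nat_lit 3, nat_lit 4, nat_lit 5, nat_lit 6, nat_lit 0, nat_lit 1, nat_lit 2, nat_lit 3, nat_lit 4, nat_lit 5, nat_lit 6, nat_lit 0, nat_lit 1, nat_lit 2, nat_lit 3, nat_lit 4, nat_lit 5, nat_lit 6, nat_lit 0, nat_lit 1, nat_lit 2, nat_lit 3, nat_lit 4, nat_lit 5, nat_lit 6, nat_lit 0, nat_lit 1, nat_lit 2, nat_lit 3, nat_lit 4, nat_lit 5, nat_lit 6, nat_lit 0, nat_lit 1]) (.leaf (nat_lit 197) (nat_lit 1) [nat_lit 2, nat_lit 3, nat_lit 4, nat_lit 5, nat_lit 6, nat_lit 0, nat_lit 1, nat_lit 2, nat_lit 3, nat_lit 4, nat_lit 5, nat_lit 6, nat_lit 0, nat_lit 1, nat_lit 2, nat_lit 3, nat_lit 4, nat_lit 5, nat_lit 6, nat_lit 0, nat_lit 1, nat_lit 2, nat_lit 3, nat_lit 4, nat_lit 5, nat_lit 6, nat_lit 0, nat_lit 1, nat_lit 2, nat_lit 3, nat_lit 4, nat_lit 5, nat_lit 6, nat_lit 0, nat_lit 1, nat_lit 2, nat_lit 3, nat_lit 4, nat_lit 5, nat_lit 6, nat_lit 0, nat_lit 1, nat_lit 2, nat_lit 3, nat_lit 4, nat_lit 5, nat_lit 6, nat_lit 0, nat_lit 1, nat_lit 2, nat_lit 3, nat_lit 4, nat_lit 5, nat_lit 6, nat_lit 0, nat_lit 1, nat_lit 2, nat_lit 3, nat_lit 4, nat_lit 5, nat_lit 6, nat_lit 0])) (.node (nat_lit 206) (.leaf (nat_lit 198) (nat_lit 0) [nat_lit 1, nat_lit 2, nat_lit 3, nat_lit 4, nat_lit 5, nat_lit 6, nat_lit 0, nat_lit 1, nat_lit 2, nat_lit 3, nat_lit 4, nat_lit 5, nat_lit 6, nat_lit 0, nat_lit 1, nat_lit 2, nat_lit 3, nat_lit 4, nat_lit 5, nat_lit 6, nat_lit 0, nat_lit 1, nat_lit 2, nat_lit 3, nat_lit 4, nat_lit 5, nat_lit 6, nat_lit 0, nat_lit 1, nat_lit 2, nat_lit 3, nat_lit 4, nat_lit 5, nat_lit 6, nat_lit 0, nat_lit 1, nat_lit 2, nat_lit 3, nat_lit 4, nat_lit 5, nat_lit 6, nat_lit 0, nat_lit 1, nat_lit 2, nat_lit 3, nat_lit 4, nat_lit 5, nat_lit 6, nat_lit 0, nat_lit 1, nat_lit 2, nat_lit 3, nat_lit 4, nat_lit 5, nat_lit 6, nat_lit 0, nat_lit 1, nat_lit 2, nat_lit 3, nat_lit 4, nat_lit 5, nat_lit 6]) (.node (nat_lit 207) (.leaf (nat_lit 192) (nat_lit 6) [nat_lit 0, nat_lit 1, nat_lit 2, nat_lit 3, nat_lit 4, nat_lit 5, nat_lit 6, nat_lit 0, nat_lit 1, nat_lit 2, nat_lit 3, nat_lit 4, nat_lit 5, nat_lit 6, nat_lit 0, nat_lit 1, nat_lit 2, nat_lit 3, nat_lit 4, nat_lit 5, nat_lit 6, nat_lit 0, nat_lit 1, nat_lit 2, nat_lit 3, nat_lit 4, nat_lit 5, nat_lit 6, nat_lit 0, nat_lit 1, nat_lit 2, nat_lit 3, nat_lit 4, nat_lit 5, nat_lit 6, nat_lit 0, nat_lit 1, nat_lit 2, nat_lit 3, nat_lit 4, nat_lit 5, nat_lit 6, nat_lit 0, nat_lit 1, nat_lit 2, nat_lit 3, nat_lit 4, nat_lit 5, nat_lit 6, nat_lit 0, nat_lit 1, nat_lit 2, nat_lit 3, nat_lit 4, nat_lit 5, nat_lit 6, nat_lit 0, nat_lit 1, nat_lit 2, nat_lit 3, nat_lit 4, nat_lit 5]) (.leaf (nat_lit 193) (nat_lit 5) [nat_lit 6, nat_lit 0, nat_lit 1, nat_lit 2, nat_lit 3, nat_lit 4, nat_lit 5, nat_lit 6, nat_lit 0, nat_lit 1, nat_lit 2, nat_lit 3, nat_lit 4, nat_lit 5, nat_lit 6, nat_lit 0, nat_lit 1, nat_lit 2, nat_lit 3, nat_lit 4, nat_lit 5, nat_lit 6, nat_lit 0, nat_lit 1, nat_lit 2, nat_lit 3, nat_lit 4, nat_lit 5, nat_lit 6, nat_lit 0, nat_lit 1, nat_lit 2, nat_lit 3, nat_lit 4, nat_lit 5, nat_lit 6, nat_lit 0, nat_lit 1, nat_lit 2, nat_lit 3, nat_lit 4, nat_lit 5, nat_lit 6, nat_lit 0, nat_lit 1, nat_lit 2, nat_lit 3, nat_lit 4, nat_lit 5, nat_lit 6, nat_lit 0, nat_lit 1, nat_lit 2, nat_lit 3, nat_lit 4, nat_lit 5, nat_lit 6, nat_lit 0, nat_lit 1, nat_lit 2, nat_lit 3, nat_lit 4]))))) (.node (nat_lit 213) (.node (nat_lit 210) (.node (nat_lit 209) (.leaf (nat_lit 194) (nat_lit 4) [nat_lit 5, nat_lit 6, nat_lit 0, nat_lit 1, nat_lit 2, nat_lit 3, nat_lit 4, nat_lit 5, nat_lit 6, nat_lit 0, nat_lit 1, nat_lit 2, nat_lit 3, nat_lit 4, nat_lit 5, nat_lit 6, nat_lit 0, nat_lit 1, nat_lit 2, nat_lit 3, nat_lit 4, nat_lit 5, nat_lit 6, nat_lit 0, nat_lit 1, nat_lit 2, nat_lit 3, nat_lit 4, nat_lit 5, nat_lit 6, nat_lit 0, nat_lit 1, nat_lit 2, nat_lit 3, nat_lit 4, nat_lit 5, nat_lit 6, nat_lit 0, nat_lit 1, nat_lit 2, nat_lit 3, nat_lit 4, nat_lit 5, nat_lit 6, nat_lit 0, nat_lit 1, nat_lit 2, nat_lit 3, nat_lit 4, nat_lit 5, nat_lit 6, nat_lit 0, nat_lit 1, nat_lit 2, nat_lit 3, nat_lit 4, nat_lit 5, nat_lit 6, nat_lit 0, nat_lit 1, nat_lit 2, nat_lit 3]) (.leaf (nat_lit 195) (nat_lit 3) [nat_lit 4, nat_lit 5, nat_lit 6, nat_lit 0, nat_lit 1, nat_lit 2, nat_lit 3, nat_lit 4, nat_lit 5, nat_lit 6, nat_lit 0, nat_lit 1, nat_lit 2, nat_lit 3, nat_lit 4, nat_lit 5, nat_lit 6, nat_lit 0, nat_lit 1, nat_lit 2, nat_lit 3, nat_lit 4, nat_lit 5, nat_lit 6, nat_lit 0, nat_lit 1, nat_lit 2, nat_lit 3, nat_lit 4, nat_lit 5, nat_lit 6, nat_lit 0, nat_lit 1, nat_lit 2, nat_lit 3, nat_lit 4, nat_lit 5, nat_lit 6, nat_lit 0, nat_lit 1, nat_lit 2, nat_lit 3, nat_lit 4, nat_lit 5, nat_lit 6, nat_lit 0, nat_lit 1, nat_lit 2, nat_lit 3, nat_lit 4, nat_lit 5, nat_lit 6, nat_lit 0, nat_lit 1, nat_lit 2, nat_lit 3, nat_lit 4, nat_lit 5, nat_lit 6, nat_lit 0, nat_lit 1, nat_lit 2])) (.node (nat_lit 211) (.leaf (nat_lit 196) (nat_lit 2) [nat_lit 3, nat_lit 4, nat_lit 5, nat_lit 6, nat_lit 0, nat_lit 1, nat_lit 2, nat_lit 3, nat_lit 4, nat_lit 5, nat_lit 6, nat_lit 0, nat_lit 1, nat_lit 2, nat_lit 3, nat_lit 4, nat_lit 5, nat_lit 6, nat_lit 0, nat_lit 1, nat_lit 2, nat_lit 3, nat_lit 4, nat_lit 5, nat_lit 6, nat_lit 0, nat_lit 1, nat_lit 2, nat_lit 3, nat_lit 4, nat_lit 5, nat_lit 6, nat_lit 0, nat_lit 1, nat_lit 2, nat_lit 3, nat_lit 4, nat_lit 5, nat_lit 6, nat_lit 0, nat_lit 1, nat_lit 2, nat_lit 3, nat_lit 4, nat_lit 5, nat_lit 6, nat_lit 0, nat_lit 1, nat_lit 2, nat_lit 3, nat_lit 4, nat_lit 5, nat_lit 6, nat_lit 0, nat_lit 1, nat_lit 2, nat_lit 3, nat_lit 4, nat_lit 5, nat_lit 6, nat_lit 0, nat_lit 1]) (.node (nat_lit 212) (.leaf (nat_lit 197) (nat_lit 1) [nat_lit 2, nat_lit 3, nat_lit 4, nat_lit 5, nat_lit 6, nat_lit 0, nat_lit 1, nat_lit 2, nat_lit 3, nat_lit 4, nat_lit 5, nat_lit 6, nat_lit 0, nat_lit 1, nat_lit 2, nat_lit 3, nat_lit 4, nat_lit 5, nat_lit 6, nat_lit 0, nat_lit 1, nat_lit 2, nat_lit 3, nat_lit 4, nat_lit 5, nat_lit 6, nat_lit 0, nat_lit 1, nat_lit 2, nat_lit 3, nat_lit 4, nat_lit 5, nat_lit 6, nat_lit 0, nat_lit 1, nat_lit 2, nat_lit 3, nat_lit 4, nat_lit 5, nat_lit 6, nat_lit 0, nat_lit 1, nat_lit 2, nat_lit 3, nat_lit 4, nat_lit 5, nat_lit 6, nat_lit 0, nat_lit 1, nat_lit 2, nat_lit 3, nat_lit 4, nat_lit 5, nat_lit 6, nat_lit 0, nat_lit 1, nat_lit 2, nat_lit 3, nat_lit 4, nat_lit 5, nat_lit 6, nat_lit 0]) (.leaf (nat_lit 198) (nat_lit 0) [nat_lit 1, nat_lit 2, nat_lit 3, nat_lit 4, nat_lit 5, nat_lit 6, nat_lit 0, nat_lit 1, nat_lit 2, nat_lit 3, nat_lit 4, nat_lit 5, nat_lit 6, nat_lit 0, nat_lit 1, nat_lit 2, nat_lit 3, nat_lit 4, nat_lit 5, nat_lit 6, nat_lit 0, nat_lit 1, nat_lit 2, nat_lit 3, nat_lit 4, nat_lit 5, nat_lit 6, nat_lit 0, nat_lit 1, nat_lit 2, nat_lit 3, nat_lit 4, nat_lit 5, nat_lit 6, nat_lit 0, nat_lit 1, nat_lit 2, nat_lit 3, nat_lit 4, nat_lit 5, nat_lit 6, nat_lit 0, nat_lit 1, nat_lit 2, nat_lit 3, nat_lit 4, nat_lit 5, nat_lit 6, nat_lit 0, nat_lit 1, nat_lit 2, nat_lit 3, nat_lit 4, nat_lit 5, nat_lit 6, nat_lit 0, nat_lit 1, nat_lit 2, nat_lit 3, nat_lit 4, nat_lit 5, nat_lit 6])))) (.node (nat_lit 215) (.node (nat_lit 214) (.leaf (nat_lit 192) (nat_lit 6) [nat_lit 0, nat_lit 1, nat_lit 2, nat_lit 3, nat_lit 4, nat_lit 5, nat_lit 6, nat_lit 0, nat_lit 1, nat_lit 2, nat_lit 3, nat_lit 4, nat_lit 5, nat_lit 6, nat_lit 0, nat_lit 1, nat_lit 2, nat_lit 3, nat_lit 4, nat_lit 5, nat_lit 6, nat_lit 0, nat_lit 1, nat_lit 2, nat_lit 3, nat_lit 4, nat_lit 5, nat_lit 6, nat_lit 0, nat_lit 1, nat_lit 2, nat_lit 3, nat_lit 4, nat_lit 5, nat_lit 6, nat_lit 0, nat_lit 1, nat_lit 2, nat_lit 3, nat_lit 4, nat_lit 5, nat_lit 6, nat_lit 0, nat_lit 1, nat_lit 2, nat_lit 3, nat_lit 4, nat_lit 5, nat_lit 6, nat_lit 0, nat_lit 1, nat_lit 2, nat_lit 3, nat_lit 4, nat_lit 5, nat_lit 6, nat_lit 0, nat_lit 1, nat_lit 2, nat_lit 3, nat_lit 4, nat_lit 5]) (.leaf (nat_lit 193) (nat_lit 5) [nat_lit 6, nat_lit 0, nat_lit 1, nat_lit 2, nat_lit 3, nat_lit 4, nat_lit 5, nat_lit 6, nat_lit 0, nat_lit 1, nat_lit 2, nat_lit 3, nat_lit 4, nat_lit 5, nat_lit 6, nat_lit 0, nat_lit 1, nat_lit 2, nat_lit 3, nat_lit 4, nat_lit 5, nat_lit 6, nat_lit 0, nat_lit 1, nat_lit 2, nat_lit 3, nat_lit 4, nat_lit 5, nat_lit 6, nat_lit 0, nat_lit 1, nat_lit 2, nat_lit 3, nat_lit 4, nat_lit 5, nat_lit 6, nat_lit 0, nat_lit 1, nat_lit 2, nat_lit 3, nat_lit 4, nat_lit 5, nat_lit 6, nat_lit 0, nat_lit 1, nat_lit 2, nat_lit 3, nat_lit 4, nat_lit 5, nat_lit 6, nat_lit 0, nat_lit 1, nat_lit 2, nat_lit 3, nat_lit 4, nat_lit 5, nat_lit 6, nat_lit 0, nat_lit 1, nat_lit 2, nat_lit 3, nat_lit 4])) (.node (nat_lit 216) (.leaf (nat_lit 194) (nat_lit 4) [nat_lit 5, nat_lit 6, nat_lit 0, nat_lit 1, nat_lit 2, nat_lit 3, nat_lit 4, nat_lit 5, nat_lit 6, nat_lit 0, nat_lit 1, nat_lit 2, nat_lit 3, nat_lit 4, nat_lit 5, nat_lit 6, nat_lit 0, nat_lit 1, nat_lit 2, nat_lit 3, nat_lit 4, nat_lit 5, nat_lit 6, nat_lit 0, nat_lit 1, nat_lit 2, nat_lit 3, nat_lit 4, nat_lit 5, nat_lit 6, nat_lit 0, nat_lit 1, nat_lit 2, nat_lit 3, nat_lit 4, nat_lit 5, nat_lit 6, nat_lit 0, nat_lit 1, nat_lit 2, nat_lit 3, nat_lit 4, nat_lit 5, nat_lit 6, nat_lit 0, nat_lit 1, nat_lit 2, nat_lit 3, nat_lit 4, nat_lit 5, nat_lit 6, nat_lit 0, nat_lit 1, nat_lit 2, nat_lit 3, nat_lit 4, nat_lit 5, nat_lit 6, nat_lit 0, nat_lit 1, nat_lit 2, nat_lit 3]) (.node (nat_lit 217) (.leaf (nat_lit 195) (nat_lit 3) [nat_lit 4, nat_lit 5, nat_lit 6, nat_lit 0, nat_lit 1, nat_lit 2, nat_lit 3, nat_lit 4, nat_lit 5, nat_lit 6, nat_lit 0, nat_lit 1, nat_lit 2, nat_lit 3, nat_lit 4, nat_lit 5, nat_lit 6, nat_lit 0, nat_lit 1, nat_lit 2, nat_lit 3, nat_lit 4, nat_lit 5, nat_lit 6, nat_lit 0, nat_lit 1, nat_lit 2, nat_lit 3, nat_lit 4, nat_lit 5, nat_lit 6, nat_lit 0, nat_lit 1, nat_lit 2, nat_lit 3, nat_lit 4, nat_lit 5, nat_lit 6, nat_lit 0, nat_lit 1, nat_lit 2, nat_lit 3, nat_lit 4, nat_lit 5, nat_lit 6, nat_lit 0, nat_lit 1, nat_lit 2, nat_lit 3, nat_lit 4, nat_lit 5, nat_lit 6, nat_lit 0, nat_lit 1, nat_lit 2, nat_lit 3, nat_lit 4, nat_lit 5, nat_lit 6, nat_lit 0, nat_lit 1, nat_lit 2]) (.leaf (nat_lit 196) (nat_lit 2) [nat_lit 3, nat_lit 4, nat_lit 5, nat_lit 6, nat_lit 0, nat_lit 1, nat_lit 2, nat_lit 3, nat_lit 4, nat_lit 5, nat_lit 6, nat_lit 0, nat_lit 1, nat_lit 2, nat_lit 3, nat_lit 4, nat_lit 5, nat_lit 6, nat_lit 0, nat_lit 1, nat_lit 2, nat_lit 3, nat_lit 4, nat_lit 5, nat_lit 6, nat_lit 0, nat_lit 1, nat_lit 2, nat_lit 3, nat_lit 4, nat_lit 5, nat_lit 6, nat_lit 0, nat_lit 1, nat_lit 2, nat_lit 3, nat_lit 4, nat_lit 5, nat_lit 6, nat_lit 0, nat_lit 1, nat_lit 2, nat_lit 3, nat_lit 4, nat_lit 5, nat_lit 6, nat_lit 0, nat_lit 1, nat_lit 2, nat_lit 3, nat_lit 4, nat_lit 5, nat_lit 6, nat_lit 0, nat_lit 1, nat_lit 2, nat_lit 3, nat_lit 4, nat_lit 5, nat_lit 6, nat_lit 0, nat_lit 1])))))) (.node (nat_lit 228) (.node (nat_lit 223) (.node (nat_lit 220) (.node (nat_lit 219) (.leaf (nat_lit 197) (nat_lit 1) [nat_lit 2, nat_lit 3, nat_lit 4, nat_lit 5, nat_lit 6, nat_lit 0, nat_lit 1, nat_lit 2, nat_lit 3, nat_lit 4, nat_lit 5, nat_lit 6, nat_lit 0, nat_lit 1, nat_lit 2, nat_lit 3, nat_lit 4, nat_lit 5, nat_lit 6, nat_lit 0, nat_lit 1, nat_lit 2, nat_lit 3, nat_lit 4, nat_lit 5, nat_lit 6, nat_lit 0, nat_lit 1, nat_lit 2, nat_lit 3, nat_lit 4, nat_lit 5, nat_lit 6, nat_lit 0, nat_lit 1, nat_lit 2, nat_lit 3, nat_lit 4, nat_lit 5, nat_lit 6, nat_lit 0, nat_lit 1, nat_lit 2, nat_lit 3, nat_lit 4, nat_lit 5, nat_lit 6, nat_lit 0, nat_lit 1, nat_lit 2, nat_lit 3, nat_lit 4, nat_lit 5, nat_lit 6, nat_lit 0, nat_lit 1, nat_lit 2, nat_lit 3, nat_lit 4, nat_lit 5, nat_lit 6, nat_lit 0]) (.leaf (nat_lit 198) (nat_lit 0) [nat_lit 1, nat_lit 2, nat_lit 3, nat_lit 4, nat_lit 5, nat_lit 6, nat_lit 0, nat_lit 1, nat_lit 2, nat_lit 3, nat_lit 4, nat_lit 5, nat_lit 6, nat_lit 0, nat_lit 1, nat_lit 2, nat_lit 3, nat_lit 4, nat_lit 5, nat_lit 6, nat_lit 0, nat_lit 1, nat_lit 2, nat_lit 3, nat_lit 4, nat_lit 5, nat_lit 6, nat_lit 0, nat_lit 1, nat_lit 2, nat_lit 3, nat_lit 4, nat_lit 5, nat_lit 6, nat_lit 0, nat_lit 1, nat_lit 2, nat_lit 3, nat_lit 4, nat_lit 5, nat_lit 6, nat_lit 0, nat_lit 1, nat_lit 2, nat_lit 3, nat_lit 4, nat_lit 5, nat_lit 6, nat_lit 0, nat_lit 1, nat_lit 2, nat_lit 3, nat_lit 4, nat_lit 5, nat_lit 6, nat_lit 0, nat_lit 1, nat_lit 2, nat_lit 3, nat_lit 4, nat_lit 5, nat_lit 6])) (.node (nat_lit 221) (.leaf (nat_lit 192) (nat_lit 6) [nat_lit 0, nat_lit 1, nat_lit 2, nat_lit 3, nat_lit 4, nat_lit 5, nat_lit 6, nat_lit 0, nat_lit 1, nat_lit 2, nat_lit 3, nat_lit 4, nat_lit 5, nat_lit 6, nat_lit 0, nat_lit 1, nat_lit 2, nat_lit 3, nat_lit 4, nat_lit 5, nat_lit 6, nat_lit 0, nat_lit 1, nat_lit 2, nat_lit 3, nat_lit 4, nat_lit 5, nat_lit 6, nat_lit 0, nat_lit 1, nat_lit 2, nat_lit 3, nat_lit 4, nat_lit 5, nat_lit 6, nat_lit 0, nat_lit 1, nat_lit 2, nat_lit 3, nat_lit 4, nat_lit 5, nat_lit 6, nat_lit 0, nat_lit 1, nat_lit 2, nat_lit 3, nat_lit 4, nat_lit 5, nat_lit 6, nat_lit 0, nat_lit 1, nat_lit 2, nat_lit 3, nat_lit 4, nat_lit 5, nat_lit 6, nat_lit 0, nat_lit 1, nat_lit 2, nat_lit 3, nat_lit 4, nat_lit 5]) (.node (nat_lit 222) (.leaf (nat_lit 193) (nat_lit 5) [nat_lit 6, nat_lit 0, nat_lit 1, nat_lit 2, nat_lit 3, nat_lit 4, nat_lit 5, nat_lit 6, nat_lit 0, nat_lit 1, nat_lit 2, nat_lit 3, nat_lit 4, nat_lit 5, nat_lit 6, nat_lit 0, nat_lit 1, nat_lit 2, nat_lit 3, nat_lit 4, nat_lit 5, nat_lit 6, nat_lit 0, nat_lit 1, nat_lit 2, nat_lit 3, nat_lit 4, nat_lit 5, nat_lit 6, nat_lit 0, nat_lit 1, nat_lit 2, nat_lit 3, nat_lit 4, nat_lit 5, nat_lit 6, nat_lit 0, nat_lit 1, nat_lit 2, nat_lit 3, nat_lit 4, nat_lit 5, nat_lit 6, nat_lit 0, nat_lit 1, nat_lit 2, nat_lit 3, nat_lit 4, nat_lit 5, nat_lit 6, nat_lit 0, nat_lit 1, nat_lit 2, nat_lit 3, nat_lit 4, nat_lit 5, nat_lit 6, nat_lit 0, nat_lit 1, nat_lit 2, nat_lit 3, nat_lit 4]) (.leaf (nat_lit 194) (nat_lit 4) [nat_lit 5, nat_lit 6, nat_lit 0, nat_lit 1, nat_lit 2, nat_lit 3, nat_lit 4, nat_lit 5, nat_lit 6, nat_lit 0, nat_lit 1, nat_lit 2, nat_lit 3, nat_lit 4, nat_lit 5, nat_lit 6, nat_lit 0, nat_lit 1, nat_lit 2, nat_lit 3, nat_lit 4, nat_lit 5, nat_lit 6, nat_lit 0, nat_lit 1, nat_lit 2, nat_lit 3, nat_lit 4, nat_lit 5, nat_lit 6, nat_lit 0, nat_lit 1, nat_lit 2, nat_lit 3, nat_lit 4, nat_lit 5, nat_lit 6, nat_lit 0, nat_lit 1, nat_lit 2, nat_lit 3, nat_lit 4, nat_lit 5, nat_lit 6, nat_lit 0, nat_lit 1, nat_lit 2, nat_lit 3, nat_lit 4, nat_lit 5, nat_lit 6, nat_lit 0, nat_lit 1, nat_lit 2, nat_lit 3, nat_lit 4, nat_lit 5, nat_lit 6, nat_lit 0, nat_lit 1, nat_lit 2, nat_lit 3])))) (.node (nat_lit 225) (.node (nat_lit 224) (.leaf (nat_lit 195) (nat_lit 3) [nat_lit 4, nat_lit 5, nat_lit 6, nat_lit 0, nat_lit 1, nat_lit 2, nat_lit 3, nat_lit 4, nat_lit 5, nat_lit 6, nat_lit 0, nat_lit 1, nat_lit 2, nat_lit 3, nat_lit 4, nat_lit 5, nat_lit 6, nat_lit 0, nat_lit 1, nat_lit 2, nat_lit 3, nat_lit 4, nat_lit 5, nat_lit 6, nat_lit 0, nat_lit 1, nat_lit 2, nat_lit 3, nat_lit 4, nat_lit 5, nat_lit 6, nat_lit 0, nat_lit 1, nat_lit 2, nat_lit 3, nat_lit 4, nat_lit 5, nat_lit 6, nat_lit 0, nat_lit 1, nat_lit 2, nat_lit 3, nat_lit 4, nat_lit 5, nat_lit 6, nat_lit 0, nat_lit 1, nat_lit 2, nat_lit 3, nat_lit 4, nat_lit 5, nat_lit 6, nat_lit 0, nat_lit 1, nat_lit 2, nat_lit 3, nat_lit 4, nat_lit 5, nat_lit 6, nat_lit 0, nat_lit 1, nat_lit 2]) (.leaf (nat_lit 196) (nat_lit 2) [nat_lit 3, nat_lit 4, nat_lit 5, nat_lit 6, nat_lit 0, nat_lit 1, nat_lit 2, nat_lit 3, nat_lit 4, nat_lit 5, nat_lit 6, nat_lit 0, nat_lit 1, nat_lit 2, nat_lit 3, nat_lit 4, nat_lit 5, nat_lit 6, nat_lit 0, nat_lit 1, nat_lit 2, nat_lit 3, nat_lit 4, nat_lit 5, nat_lit 6, nat_lit 0, nat_lit 1, nat_lit 2, nat_lit 3, nat_lit 4, nat_lit 5, nat_lit 6, nat_lit 0, nat_lit 1, nat_lit 2, nat_lit 3, nat_lit 4, nat_lit 5, nat_lit 6, nat_lit 0, nat_lit 1, nat_lit 2, nat_lit 3, nat_lit 4, nat_lit 5, nat_lit 6, nat_lit 0, nat_lit 1, nat_lit 2, nat_lit 3, nat_lit 4, nat_lit 5, nat_lit 6, nat_lit 0, nat_lit 1, nat_lit 2, nat_lit 3, nat_lit 4, nat_lit 5, nat_lit 6, nat_lit 0, nat_lit 1])) (.node (nat_lit 226) (.leaf (nat_lit 197) (nat_lit 1) [nat_lit 2, nat_lit 3, nat_lit 4, nat_lit 5, nat_lit 6, nat_lit 0, nat_lit 1, nat_lit 2, nat_lit 3, nat_lit 4, nat_lit 5, nat_lit 6, nat_lit 0, nat_lit 1, nat_lit 2, nat_lit 3, nat_lit 4, nat_lit 5, nat_lit 6, nat_lit 0, nat_lit 1, nat_lit 2, nat_lit 3, nat_lit 4, nat_lit 5, nat_lit 6, nat_lit 0, nat_lit 1, nat_lit 2, nat_lit 3, nat_lit 4, nat_lit 5, nat_lit 6, nat_lit 0, nat_lit 1, nat_lit 2, nat_lit 3, nat_lit 4, nat_lit 5, nat_lit 6, nat_lit 0, nat_lit 1, nat_lit 2, nat_lit 3, nat_lit 4, nat_lit 5, nat_lit 6, nat_lit 0, nat_lit 1, nat_lit 2, nat_lit 3, nat_lit 4, nat_lit 5, nat_lit 6, nat_lit 0, nat_lit 1, nat_lit 2, nat_lit 3, nat_lit 4, nat_lit 5, nat_lit 6, nat_lit 0]) (.node (nat_lit 227) (.leaf (nat_lit 198) (nat_lit 0) [nat_lit 1, nat_lit 2, nat_lit 3, nat_lit 4, nat_lit 5, nat_lit 6, nat_lit 0, nat_lit 1, nat_lit 2, nat_lit 3, nat_lit 4, nat_lit 5, nat_lit 6, nat_lit 0, nat_lit 1, nat_lit 2, nat_lit 3, nat_lit 4, nat_lit 5, nat_lit 6, nat_lit 0, nat_lit 1, nat_lit 2, nat_lit 3, nat_lit 4, nat_lit 5, nat_lit 6, nat_lit 0, nat_lit 1, nat_lit 2, nat_lit 3, nat_lit 4, nat_lit 5, nat_lit 6, nat_lit 0, nat_lit 1, nat_lit 2, nat_lit 3, nat_lit 4, nat_lit 5, nat_lit 6, nat_lit 0, nat_lit 1, nat_lit 2, nat_lit 3, nat_lit 4, nat_lit 5, nat_lit 6, nat_lit 0, nat_lit 1, nat_lit 2, nat_lit 3, nat_lit 4, nat_lit 5, nat_lit 6, nat_lit 0, nat_lit 1, nat_lit 2, nat_lit 3, nat_lit 4, nat_lit 5, nat_lit 6]) (.leaf (nat_lit 192) (nat_lit 6) [nat_lit 0, nat_lit 1, nat_lit 2, nat_lit 3, nat_lit 4, nat_lit 5, nat_lit 6, nat_lit 0, nat_lit 1, nat_lit 2, nat_lit 3, nat_lit 4, nat_lit 5, nat_lit 6, nat_lit 0, nat_lit 1, nat_lit 2, nat_lit 3, nat_lit 4, nat_lit 5, nat_lit 6, nat_lit 0, nat_lit 1, nat_lit 2, nat_lit 3, nat_lit 4, nat_lit 5, nat_lit 6, nat_lit 0, nat_lit 1, nat_lit 2, nat_lit 3, nat_lit 4, nat_lit 5, nat_lit 6, nat_lit 0, nat_lit 1, nat_lit 2, nat_lit 3, nat_lit 4, nat_lit 5, nat_lit 6, nat_lit 0, nat_lit 1, nat_lit 2, nat_lit 3, nat_lit 4, nat_lit 5, nat_lit 6, nat_lit 0, nat_lit 1, nat_lit 2, nat_lit 3, nat_lit 4, nat_lit 5, nat_lit 6, nat_lit 0, nat_lit 1, nat_lit 2, nat_lit 3, nat_lit 4, nat_lit 5]))))) (.node (nat_lit 233) (.node (nat_lit 230) (.node (nat_lit 229) (.leaf (nat_lit 193) (nat_lit 5) [nat_lit 6, nat_lit 0, nat_lit 1, nat_lit 2, nat_lit 3, nat_lit 4, nat_lit 5, nat_lit 6, nat_lit 0, nat_lit 1, nat_lit 2, nat_lit 3, nat_lit 4, nat_lit 5, nat_lit 6, nat_lit 0, nat_lit 1, nat_lit 2, nat_lit 3, nat_lit 4, nat_lit 5, nat_lit 6, nat_lit 0, nat_lit 1, nat_lit 2, nat_lit 3, nat_lit 4, nat_lit 5, nat_lit 6, nat_lit 0, nat_lit 1, nat_lit 2, nat_lit 3, nat_lit 4, nat_lit 5, nat_lit 6, nat_lit 0, nat_lit 1, nat_lit 2, nat_lit 3, nat_lit 4, nat_lit 5, nat_lit 6, nat_lit 0, nat_lit 1, nat_lit 2, nat_lit 3, nat_lit 4, nat_lit 5, nat_lit 6, nat_lit 0, nat_lit 1, nat_lit 2, nat_lit 3, nat_lit 4, nat_lit 5, nat_lit 6, nat_lit 0, nat_lit 1, nat_lit 2, nat_lit 3, nat_lit 4]) (.leaf (nat_lit 194) (nat_lit 4) [nat_lit 5, nat_lit 6, nat_lit 0, nat_lit 1, nat_lit 2, nat_lit 3, nat_lit 4, nat_lit 5, nat_lit 6, nat_lit 0, nat_lit 1, nat_lit 2, nat_lit 3, nat_lit 4, nat_lit 5, nat_lit 6, nat_lit 0, nat_lit 1, nat_lit 2, nat_lit 3, nat_lit 4, nat_lit 5, nat_lit 6, nat_lit 0, nat_lit 1, nat_lit 2, nat_lit 3, nat_lit 4, nat_lit 5, nat_lit 6, nat_lit 0, nat_lit 1, nat_lit 2, nat_lit 3, nat_lit 4, nat_lit 5, nat_lit 6, nat_lit 0, nat_lit 1, nat_lit 2, nat_lit 3, nat_lit 4, nat_lit 5, nat_lit 6, nat_lit 0, nat_lit 1, nat_lit 2, nat_lit 3, nat_lit 4, nat_lit 5, nat_lit 6, nat_lit 0, nat_lit 1, nat_lit 2, nat_lit 3, nat_lit 4, nat_lit 5, nat_lit 6, nat_lit 0, nat_lit 1, nat_lit 2, nat_lit 3])) (.node (nat_lit 231) (.leaf (nat_lit 195) (nat_lit 3) [nat_lit 4, nat_lit 5, nat_lit 6, nat_lit 0, nat_lit 1, nat_lit 2, nat_lit 3, nat_lit 4, nat_lit 5, nat_lit 6, nat_lit 0, nat_lit 1, nat_lit 2, nat_lit 3, nat_lit 4, nat_lit 5, nat_lit 6, nat_lit 0, nat_lit 1, nat_lit 2, nat_lit 3, nat_lit 4, nat_lit 5, nat_lit 6, nat_lit 0, nat_lit 1, nat_lit 2, nat_lit 3, nat_lit 4, nat_lit 5, nat_lit 6, nat_lit 0, nat_lit 1, nat_lit 2, nat_lit 3, nat_lit 4, nat_lit 5, nat_lit 6, nat_lit 0, nat_lit 1, nat_lit 2, nat_lit 3, nat_lit 4, nat_lit 5, nat_lit 6, nat_lit 0, nat_lit 1, nat_lit 2, nat_lit 3, nat_lit 4, nat_lit 5, nat_lit 6, nat_lit 0, nat_lit 1, nat_lit 2, nat_lit 3, nat_lit 4, nat_lit 5, nat_lit 6, nat_lit 0, nat_lit 1, nat_lit 2]) (.node (nat_lit 232) (.leaf (nat_lit 196) (nat_lit 2) [nat_lit 3, nat_lit 4, nat_lit 5, nat_lit 6, nat_lit 0, nat_lit 1, nat_lit 2, nat_lit 3, nat_lit 4, nat_lit 5, nat_lit 6, nat_lit 0, nat_lit 1, nat_lit 2, nat_lit 3, nat_lit 4, nat_lit 5, nat_lit 6, nat_lit 0, nat_lit 1, nat_lit 2, nat_lit 3, nat_lit 4, nat_lit 5, nat_lit 6, nat_lit 0, nat_lit 1, nat_lit 2, nat_lit 3, nat_lit 4, nat_lit 5, nat_lit 6, nat_lit 0, nat_lit 1, nat_lit 2, nat_lit 3, nat_lit 4, nat_lit 5, nat_lit 6, nat_lit 0, nat_lit 1, nat_lit 2, nat_lit 3, nat_lit 4, nat_lit 5, nat_lit 6, nat_lit 0, nat_lit 1, nat_lit 2, nat_lit 3, nat_lit 4, nat_lit 5, nat_lit 6, nat_lit 0, nat_lit 1, nat_lit 2, nat_lit 3, nat_lit 4, nat_lit 5, nat_lit 6, nat_lit 0, nat_lit 1]) (.leaf (nat_lit 197) (nat_lit 1) [nat_lit 2, nat_lit 3, nat_lit 4, nat_lit 5, nat_lit 6, nat_lit 0, nat_lit 1, nat_lit 2, nat_lit 3, nat_lit 4, nat_lit 5, nat_lit 6, nat_lit 0, nat_lit 1, nat_lit 2, nat_lit 3, nat_lit 4, nat_lit 5, nat_lit 6, nat_lit 0, nat_lit 1, nat_lit 2, nat_lit 3, nat_lit 4, nat_lit 5, nat_lit 6, nat_lit 0, nat_lit 1, nat_lit 2, nat_lit 3, nat_lit 4, nat_lit 5, nat_lit 6, nat_lit 0, nat_lit 1, nat_lit 2, nat_lit 3, nat_lit 4, nat_lit 5, nat_lit 6, nat_lit 0, nat_lit 1, nat_lit 2, nat_lit 3, nat_lit 4, nat_lit 5, nat_lit 6, nat_lit 0, nat_lit 1, nat_lit 2, nat_lit 3, nat_lit 4, nat_lit 5, nat_lit 6, nat_lit 0, nat_lit 1, nat_lit 2, nat_lit 3, nat_lit 4, nat_lit 5, nat_lit 6, nat_lit 0])))) (.node (nat_lit 235) (.node (nat_lit 234) (.leaf (nat_lit 198) (nat_lit 0) [nat_lit 1, nat_lit 2, nat_lit 3, nat_lit 4, nat_lit 5, nat_lit 6, nat_lit 0, nat_lit 1, nat_lit 2, nat_lit 3, nat_lit 4, nat_lit 5, nat_lit 6, nat_lit 0, nat_lit 1, nat_lit 2, nat_lit 3, nat_lit 4, nat_lit 5, nat_lit 6, nat_lit 0, nat_lit 1, nat_lit 2, nat_lit 3, nat_lit 4, nat_lit 5, nat_lit 6, nat_lit 0, nat_lit 1, nat_lit 2, nat_lit 3, nat_lit 4, nat_lit 5, nat_lit 6, nat_lit 0, nat_lit 1, nat_lit 2, nat_lit 3, nat_lit 4, nat_lit 5, nat_lit 6, nat_lit 0, nat_lit 1, nat_lit 2, nat_lit 3, nat_lit 4, nat_lit 5, nat_lit 6, nat_lit 0, nat_lit 1, nat_lit 2, nat_lit 3, nat_lit 4, nat_lit 5, nat_lit 6, nat_lit 0, nat_lit 1, nat_lit 2, nat_lit 3, nat_lit 4, nat_lit 5, nat_lit 6]) (.leaf (nat_lit 192) (nat_lit 6) [nat_lit 0, nat_lit 1, nat_lit 2, nat_lit 3, nat_lit 4, nat_lit 5, nat_lit 6, nat_lit 0, nat_lit 1, nat_lit 2, nat_lit 3, nat_lit 4, nat_lit 5, nat_lit 6, nat_lit 0, nat_lit 1, nat_lit 2, nat_lit 3, nat_lit 4, nat_lit 5, nat_lit 6, nat_lit 0, nat_lit 1, nat_lit 2, nat_lit 3, nat_lit 4, nat_lit 5, nat_lit 6, nat_lit 0, nat_lit 1, nat_lit 2, nat_lit 3, nat_lit 4, nat_lit 5, nat_lit 6, nat_lit 0, nat_lit 1, nat_lit 2, nat_lit 3, nat_lit 4, nat_lit 5, nat_lit 6, nat_lit 0, nat_lit 1, nat_lit 2, nat_lit 3, nat_lit 4, nat_lit 5, nat_lit 6, nat_lit 0, nat_lit 1, nat_lit 2, nat_lit 3, nat_lit 4, nat_lit 5, nat_lit 6, nat_lit 0, nat_lit 1, nat_lit 2, nat_lit 3, nat_lit 4, nat_lit 5])) (.node (nat_lit 236) (.leaf (nat_lit 193) (nat_lit 5) [nat_lit 6, nat_lit 0, nat_lit 1, nat_lit 2, nat_lit 3, nat_lit 4, nat_lit 5, nat_lit 6, nat_lit 0, nat_lit 1, nat_lit 2, nat_lit 3, nat_lit 4, nat_lit 5, nat_lit 6, nat_lit 0, nat_lit 1, nat_lit 2, nat_lit 3, nat_lit 4, nat_lit 5, nat_lit 6, nat_lit 0, nat_lit 1, nat_lit 2, nat_lit 3, nat_lit 4, nat_lit 5, nat_lit 6, nat_lit 0, nat_lit 1, nat_lit 2, nat_lit 3, nat_lit 4, nat_lit 5, nat_lit 6, nat_lit 0, nat_lit 1, nat_lit 2, nat_lit 3, nat_lit 4, nat_lit 5, nat_lit 6, nat_lit 0, nat_lit 1, nat_lit 2, nat_lit 3, nat_lit 4, nat_lit 5, nat_lit 6, nat_lit 0, nat_lit 1, nat_lit 2, nat_lit 3, nat_lit 4, nat_lit 5, nat_lit 6, nat_lit 0, nat_lit 1, nat_lit 2, nat_lit 3, nat_lit 4]) (.node (nat_lit 237) (.leaf (nat_lit 194) (nat_lit 4) [nat_lit 5, nat_lit 6, nat_lit 0, nat_lit 1, nat_lit 2, nat_lit 3, nat_lit 4, nat_lit 5, nat_lit 6, nat_lit 0, nat_lit 1, nat_lit 2, nat_lit 3, nat_lit 4, nat_lit 5, nat_lit 6, nat_lit 0, nat_lit 1, nat_lit 2, nat_lit 3, nat_lit 4, nat_lit 5, nat_lit 6, nat_lit 0, nat_lit 1, nat_lit 2, nat_lit 3, nat_lit 4, nat_lit 5, nat_lit 6, nat_lit 0, nat_lit 1, nat_lit 2, nat_lit 3, nat_lit 4, nat_lit 5, nat_lit 6, nat_lit 0, nat_lit 1, nat_lit 2, nat_lit 3, nat_lit 4, nat_lit 5, nat_lit 6, nat_lit 0, nat_lit 1, nat_lit 2, nat_lit 3, nat_lit 4, nat_lit 5, nat_lit 6, nat_lit 0, nat_lit 1, nat_lit 2, nat_lit 3, nat_lit 4, nat_lit 5, nat_lit 6, nat_lit 0, nat_lit 1, nat_lit 2, nat_lit 3]) (.leaf (nat_lit 195) (nat_lit 3) [nat_lit 4, nat_lit 5, nat_lit 6, nat_lit 0, nat_lit 1, nat_lit 2, nat_lit 3, nat_lit 4, nat_lit 5, nat_lit 6, nat_lit 0, nat_lit 1, nat_lit 2, nat_lit 3, nat_lit 4, nat_lit 5, nat_lit 6, nat_lit 0, nat_lit 1, nat_lit 2, nat_lit 3, nat_lit 4, nat_lit 5, nat_lit 6, nat_lit 0, nat_lit 1, nat_lit 2, nat_lit 3, nat_lit 4, nat_lit 5, nat_lit 6, nat_lit 0, nat_lit 1, nat_lit 2, nat_lit 3, nat_lit 4, nat_lit 5, nat_lit 6, nat_lit 0, nat_lit 1, nat_lit 2, nat_lit 3, nat_lit 4, nat_lit 5, nat_lit 6, nat_lit 0, nat_lit 1, nat_lit 2, nat_lit 3, nat_lit 4, nat_lit 5, nat_lit 6, nat_lit 0, nat_lit 1, nat_lit 2, nat_lit 3, nat_lit 4, nat_lit 5, nat_lit 6, nat_lit 0, nat_lit 1, nat_lit 2])))))))) (.node (nat_lit 278) (.node (nat_lit 258) (.node (nat_lit 248) (.node (nat_lit 243) (.node (nat_lit 240) (.node (nat_lit 239) (.leaf (nat_lit 196) (nat_lit 2) [nat_lit 3, nat_lit 4, nat_lit 5, nat_lit 6, nat_lit 0, nat_lit 1, nat_lit 2, nat_lit 3, nat_lit 4, nat_lit 5, nat_lit 6, nat_lit 0, nat_lit 1, nat_lit 2, nat_lit 3, nat_lit 4, nat_lit 5, nat_lit 6, nat_lit 0, nat_lit 1, nat_lit 2, nat_lit 3, nat_lit 4, nat_lit 5, nat_lit 6, nat_lit 0, nat_lit 1, nat_lit 2, nat_lit 3, nat_lit 4, nat_lit 5, nat_lit 6, nat_lit 0, nat_lit 1, nat_lit 2, nat_lit 3, nat_lit 4, nat_lit 5, nat_lit 6, nat_lit 0, nat_lit 1, nat_lit 2, nat_lit 3, nat_lit 4, nat_lit 5, nat_lit 6, nat_lit 0, nat_lit 1, nat_lit 2, nat_lit 3, nat_lit 4, nat_lit 5, nat_lit 6, nat_lit 0, nat_lit 1, nat_lit 2, nat_lit 3, nat_lit 4, nat_lit 5, nat_lit 6, nat_lit 0, nat_lit 1]) (.leaf (nat_lit 197) (nat_lit 1) [nat_lit 2, nat_lit 3, nat_lit 4, nat_lit 5, nat_lit 6, nat_lit 0, nat_lit 1, nat_lit 2, nat_lit 3, nat_lit 4, nat_lit 5, nat_lit 6, nat_lit 0, nat_lit 1, nat_lit 2, nat_lit 3, nat_lit 4, nat_lit 5, nat_lit 6, nat_lit 0, nat_lit 1, nat_lit 2, nat_lit 3, nat_lit 4, nat_lit 5, nat_lit 6, nat_lit 0, nat_lit 1, nat_lit 2, nat_lit 3, nat_lit 4, nat_lit 5, nat_lit 6, nat_lit 0, nat_lit 1, nat_lit 2, nat_lit 3, nat_lit 4, nat_lit 5, nat_lit 6, nat_lit 0, nat_lit 1, nat_lit 2, nat_lit 3, nat_lit 4, nat_lit 5, nat_lit 6, nat_lit 0, nat_lit 1, nat_lit 2, nat_lit 3, nat_lit 4, nat_lit 5, nat_lit 6, nat_lit 0, nat_lit 1, nat_lit 2, nat_lit 3, nat_lit 4, nat_lit 5, nat_lit 6, nat_lit 0])) (.node (nat_lit 241) (.leaf (nat_lit 198) (nat_lit 0) [nat_lit 1, nat_lit 2, nat_lit 3, nat_lit 4, nat_lit 5, nat_lit 6, nat_lit 0, nat_lit 1, nat_lit 2, nat_lit 3, nat_lit 4, nat_lit 5, nat_lit 6, nat_lit 0, nat_lit 1, nat_lit 2, nat_lit 3, nat_lit 4, nat_lit 5, nat_lit 6, nat_lit 0, nat_lit 1, nat_lit 2, nat_lit 3, nat_lit 4, nat_lit 5, nat_lit 6, nat_lit 0, nat_lit 1, nat_lit 2, nat_lit 3, nat_lit 4, nat_lit 5, nat_lit 6, nat_lit 0, nat_lit 1, nat_lit 2, nat_lit 3, nat_lit 4, nat_lit 5, nat_lit 6, nat_lit 0, nat_lit 1, nat_lit 2, nat_lit 3, nat_lit 4, nat_lit 5, nat_lit 6, nat_lit 0, nat_lit 1, nat_lit 2, nat_lit 3, nat_lit 4, nat_lit 5, nat_lit 6, nat_lit 0, nat_lit 1, nat_lit 2, nat_lit 3, nat_lit 4, nat_lit 5, nat_lit 6]) (.node (nat_lit 242) (.leaf (nat_lit 192) (nat_lit 6) [nat_lit 0, nat_lit 1, nat_lit 2, nat_lit 3, nat_lit 4, nat_lit 5, nat_lit 6, nat_lit 0, nat_lit 1, nat_lit 2, nat_lit 3, nat_lit 4, nat_lit 5, nat_lit 6, nat_lit 0, nat_lit 1, nat_lit 2, nat_lit 3, nat_lit 4, nat_lit 5, nat_lit 6, nat_lit 0, nat_lit 1, nat_lit 2, nat_lit 3, nat_lit 4, nat_lit 5, nat_lit 6, nat_lit 0, nat_lit 1, nat_lit 2, nat_lit 3, nat_lit 4, nat_lit 5, nat_lit 6, nat_lit 0, nat_lit 1, nat_lit 2, nat_lit 3, nat_lit 4, nat_lit 5, nat_lit 6, nat_lit 0, nat_lit 1, nat_lit 2, nat_lit 3, nat_lit 4, nat_lit 5, nat_lit 6, nat_lit 0, nat_lit 1, nat_lit 2, nat_lit 3, nat_lit 4, nat_lit 5, nat_lit 6, nat_lit 0, nat_lit 1, nat_lit 2, nat_lit 3, nat_lit 4, nat_lit 5]) (.leaf (nat_lit 193) (nat_lit 5) [nat_lit 6, nat_lit 0, nat_lit 1, nat_lit 2, nat_lit 3, nat_lit 4, nat_lit 5, nat_lit 6, nat_lit 0, nat_lit 1, nat_lit 2, nat_lit 3, nat_lit 4, nat_lit 5, nat_lit 6, nat_lit 0, nat_lit 1, nat_lit 2, nat_lit 3, nat_lit 4, nat_lit 5, nat_lit 6, nat_lit 0, nat_lit 1, nat_lit 2, nat_lit 3, nat_lit 4, nat_lit 5, nat_lit 6, nat_lit 0, nat_lit 1, nat_lit 2, nat_lit 3, nat_lit 4, nat_lit 5, nat_lit 6, nat_lit 0, nat_lit 1, nat_lit 2, nat_lit 3, nat_lit 4, nat_lit 5, nat_lit 6, nat_lit 0, nat_lit 1, nat_lit 2, nat_lit 3, nat_lit 4, nat_lit 5, nat_lit 6, nat_lit 0, nat_lit 1, nat_lit 2, nat_lit 3, nat_lit 4, nat_lit 5, nat_lit 6, nat_lit 0, nat_lit 1, nat_lit 2, nat_lit 3, nat_lit 4])))) (.node (nat_lit 245) (.node (nat_lit 244) (.leaf (nat_lit 194) (nat_lit 4) [nat_lit 5, nat_lit 6, nat_lit 0, nat_lit 1, nat_lit 2, nat_lit 3, nat_lit 4, nat_lit 5, nat_lit 6, nat_lit 0, nat_lit 1, nat_lit 2, nat_lit 3, nat_lit 4, nat_lit 5, nat_lit 6, nat_lit 0, nat_lit 1, nat_lit 2, nat_lit 3, nat_lit 4, nat_lit 5, nat_lit 6, nat_lit 0, nat_lit 1, nat_lit 2, nat_lit 3, nat_lit 4, nat_lit 5, nat_lit 6, nat_lit 0, nat_lit 1, nat_lit 2, nat_lit 3, nat_lit 4, nat_lit 5, nat_lit 6, nat_lit 0, nat_lit 1, nat_lit 2, nat_lit 3, nat_lit 4, nat_lit 5, nat_lit 6, nat_lit 0, nat_lit 1, nat_lit 2, nat_lit 3, nat_lit 4, nat_lit 5, nat_lit 6, nat_lit 0, nat_lit 1, nat_lit 2, nat_lit 3, nat_lit 4, nat_lit 5, nat_lit 6, nat_lit 0, nat_lit 1, nat_lit 2, nat_lit 3]) (.leaf (nat_lit 195) (nat_lit 3) [nat_lit 4, nat_lit 5, nat_lit 6, nat_lit 0, nat_lit 1, nat_lit 2, nat_lit 3, nat_lit 4, nat_lit 5, nat_lit 6, nat_lit 0, nat_lit 1, nat_lit 2, nat_lit 3, nat_lit 4, nat_lit 5, nat_lit 6, nat_lit 0, nat_lit 1, nat_lit 2, nat_lit 3, nat_lit 4, nat_lit 5, nat_lit 6, nat_lit 0, nat_lit 1, nat_lit 2, nat_lit 3, nat_lit 4, nat_lit 5, nat_lit 6, nat_lit 0, nat_lit 1, nat_lit 2, nat_lit 3, nat_lit 4, nat_lit 5, nat_lit 6, nat_lit 0, nat_lit 1, nat_lit 2, nat_lit 3, nat_lit 4, nat_lit 5, nat_lit 6, nat_lit 0, nat_lit 1, nat_lit 2, nat_lit 3, nat_lit 4, nat_lit 5, nat_lit 6, nat_lit 0, nat_lit 1, nat_lit 2, nat_lit 3, nat_lit 4, nat_lit 5, nat_lit 6, nat_lit 0, nat_lit 1, nat_lit 2])) (.node (nat_lit 246) (.leaf (nat_lit 196) (nat_lit 2) [nat_lit 3, nat_lit 4, nat_lit 5, nat_lit 6, nat_lit 0, nat_lit 1, nat_lit 2, nat_lit 3, nat_lit 4, nat_lit 5, nat_lit 6, nat_lit 0, nat_lit 1, nat_lit 2, nat_lit 3, nat_lit 4, nat_lit 5, nat_lit 6, nat_lit 0, nat_lit 1, nat_lit 2, nat_lit 3, nat_lit 4, nat_lit 5, nat_lit 6, nat_lit 0, nat_lit 1, nat_lit 2, nat_lit 3, nat_lit 4, nat_lit 5, nat_lit 6, nat_lit 0, nat_lit 1, nat_lit 2, nat_lit 3, nat_lit 4, nat_lit 5, nat_lit 6, nat_lit 0, nat_lit 1, nat_lit 2, nat_lit 3, nat_lit 4, nat_lit 5, nat_lit 6, nat_lit 0, nat_lit 1, nat_lit 2, nat_lit 3, nat_lit 4, nat_lit 5, nat_lit 6, nat_lit 0, nat_lit 1, nat_lit 2, nat_lit 3, nat_lit 4, nat_lit 5, nat_lit 6, nat_lit 0, nat_lit 1]) (.node (nat_lit 247) (.leaf (nat_lit 197) (nat_lit 1) [nat_lit 2, nat_lit 3, nat_lit 4, nat_lit 5, nat_lit 6, nat_lit 0, nat_lit 1, nat_lit 2, nat_lit 3, nat_lit 4, nat_lit 5, nat_lit 6, nat_lit 0, nat_lit 1, nat_lit 2, nat_lit 3, nat_lit 4, nat_lit 5, nat_lit 6, nat_lit 0, nat_lit 1, nat_lit 2, nat_lit 3, nat_lit 4, nat_lit 5, nat_lit 6, nat_lit 0, nat_lit 1, nat_lit 2, nat_lit 3, nat_lit 4, nat_lit 5, nat_lit 6, nat_lit 0, nat_lit 1, nat_lit 2, nat_lit 3, nat_lit 4, nat_lit 5, nat_lit 6, nat_lit 0, nat_lit 1, nat_lit 2, nat_lit 3, nat_lit 4, nat_lit 5, nat_lit 6, nat_lit 0, nat_lit 1, nat_lit 2, nat_lit 3, nat_lit 4, nat_lit 5, nat_lit 6, nat_lit 0, nat_lit 1, nat_lit 2, nat_lit 3, nat_lit 4, nat_lit 5, nat_lit 6, nat_lit 0]) (.leaf (nat_lit 198) (nat_lit 0) [nat_lit 1, nat_lit 2, nat_lit 3, nat_lit 4, nat_lit 5, nat_lit 6, nat_lit 0, nat_lit 1, nat_lit 2, nat_lit 3, nat_lit 4, nat_lit 5, nat_lit 6, nat_lit 0, nat_lit 1, nat_lit 2, nat_lit 3, nat_lit 4, nat_lit 5, nat_lit 6, nat_lit 0, nat_lit 1, nat_lit 2, nat_lit 3, nat_lit 4, nat_lit 5, nat_lit 6, nat_lit 0, nat_lit 1, nat_lit 2, nat_lit 3, nat_lit 4, nat_lit 5, nat_lit 6, nat_lit 0, nat_lit 1, nat_lit 2, nat_lit 3, nat_lit 4, nat_lit 5, nat_lit 6, nat_lit 0, nat_lit 1, nat_lit 2, nat_lit 3, nat_lit 4, nat_lit 5, nat_lit 6, nat_lit 0, nat_lit 1, nat_lit 2, nat_lit 3, nat_lit 4, nat_lit 5, nat_lit 6, nat_lit 0, nat_lit 1, nat_lit 2, nat_lit 3, nat_lit 4, nat_lit 5, nat_lit 6]))))) (.node (nat_lit 253) (.node (nat_lit 250) (.node (nat_lit 249) (.leaf (nat_lit 192) (nat_lit 6) [nat_lit 0, nat_lit 1, nat_lit 2, nat_lit 3, nat_lit 4, nat_lit 5, nat_lit 6, nat_lit 0, nat_lit 1, nat_lit 2, nat_lit 3, nat_lit 4, nat_lit 5, nat_lit 6, nat_lit 0, nat_lit 1, nat_lit 2, nat_lit 3, nat_lit 4, nat_lit 5, nat_lit 6, nat_lit 0, nat_lit 1, nat_lit 2, nat_lit 3, nat_lit 4, nat_lit 5, nat_lit 6, nat_lit 0, nat_lit 1, nat_lit 2, nat_lit 3, nat_lit 4, nat_lit 5, nat_lit 6, nat_lit 0, nat_lit 1, nat_lit 2, nat_lit 3, nat_lit 4, nat_lit 5, nat_lit 6, nat_lit 0, nat_lit 1, nat_lit 2, nat_lit 3, nat_lit 4, nat_lit 5, nat_lit 6, nat_lit 0, nat_lit 1, nat_lit 2, nat_lit 3, nat_lit 4, nat_lit 5, nat_lit 6, nat_lit 0, nat_lit 1, nat_lit 2, nat_lit 3, nat_lit 4, nat_lit 5]) (.leaf (nat_lit 193) (nat_lit 5) [nat_lit 6, nat_lit 0, nat_lit 1, nat_lit 2, nat_lit 3, nat_lit 4, nat_lit 5, nat_lit 6, nat_lit 0, nat_lit 1, nat_lit 2, nat_lit 3, nat_lit 4, nat_lit 5, nat_lit 6, nat_lit 0, nat_lit 1, nat_lit 2, nat_lit 3, nat_lit 4, nat_lit 5, nat_lit 6, nat_lit 0, nat_lit 1, nat_lit 2, nat_lit 3, nat_lit 4, nat_lit 5, nat_lit 6, nat_lit 0, nat_lit 1, nat_lit 2, nat_lit 3, nat_lit 4, nat_lit 5, nat_lit 6, nat_lit 0, nat_lit 1, nat_lit 2, nat_lit 3, nat_lit 4, nat_lit 5, nat_lit 6, nat_lit 0, nat_lit 1, nat_lit 2, nat_lit 3, nat_lit 4, nat_lit 5, nat_lit 6, nat_lit 0, nat_lit 1, nat_lit 2, nat_lit 3, nat_lit 4, nat_lit 5, nat_lit 6, nat_lit 0, nat_lit 1, nat_lit 2, nat_lit 3, nat_lit 4])) (.node (nat_lit 251) (.leaf (nat_lit 194) (nat_lit 4) [nat_lit 5, nat_lit 6, nat_lit 0, nat_lit 1, nat_lit 2, nat_lit 3, nat_lit 4, nat_lit 5, nat_lit 6, nat_lit 0, nat_lit 1, nat_lit 2, nat_lit 3, nat_lit 4, nat_lit 5, nat_lit 6, nat_lit 0, nat_lit 1, nat_lit 2, nat_lit 3, nat_lit 4, nat_lit 5, nat_lit 6, nat_lit 0, nat_lit 1, nat_lit 2, nat_lit 3, nat_lit 4, nat_lit 5, nat_lit 6, nat_lit 0, nat_lit 1, nat_lit 2, nat_lit 3, nat_lit 4, nat_lit 5, nat_lit 6, nat_lit 0, nat_lit 1, nat_lit 2, nat_lit 3, nat_lit 4, nat_lit 5, nat_lit 6, nat_lit 0, nat_lit 1, nat_lit 2, nat_lit 3, nat_lit 4, nat_lit 5, nat_lit 6, nat_lit 0, nat_lit 1, nat_lit 2, nat_lit 3, nat_lit 4, nat_lit 5, nat_lit 6, nat_lit 0, nat_lit 1, nat_lit 2, nat_lit 3]) (.node (nat_lit 252) (.leaf (nat_lit 195) (nat_lit 3) [nat_lit 4, nat_lit 5, nat_lit 6, nat_lit 0, nat_lit 1, nat_lit 2, nat_lit 3, nat_lit 4, nat_lit 5, nat_lit 6, nat_lit 0, nat_lit 1, nat_lit 2, nat_lit 3, nat_lit 4, nat_lit 5, nat_lit 6, nat_lit 0, nat_lit 1, nat_lit 2, nat_lit 3, nat_lit 4, nat_lit 5, nat_lit 6, nat_lit 0, nat_lit 1, nat_lit 2, nat_lit 3, nat_lit 4, nat_lit 5, nat_lit 6, nat_lit 0, nat_lit 1, nat_lit 2, nat_lit 3, nat_lit 4, nat_lit 5, nat_lit 6, nat_lit 0, nat_lit 1, nat_lit 2, nat_lit 3, nat_lit 4, nat_lit 5, nat_lit 6, nat_lit 0, nat_lit 1, nat_lit 2, nat_lit 3, nat_lit 4, nat_lit 5, nat_lit 6, nat_lit 0, nat_lit 1, nat_lit 2, nat_lit 3, nat_lit 4, nat_lit 5, nat_lit 6, nat_lit 0, nat_lit 1, nat_lit 2]) (.leaf (nat_lit 196) (nat_lit 2) [nat_lit 3, nat_lit 4, nat_lit 5, nat_lit 6, nat_lit 0, nat_lit 1, nat_lit 2, nat_lit 3, nat_lit 4, nat_lit 5, nat_lit 6, nat_lit 0, nat_lit 1, nat_lit 2, nat_lit 3, nat_lit 4, nat_lit 5, nat_lit 6, nat_lit 0, nat_lit 1, nat_lit 2, nat_lit 3, nat_lit 4, nat_lit 5, nat_lit 6, nat_lit 0, nat_lit 1, nat_lit 2, nat_lit 3, nat_lit 4, nat_lit 5, nat_lit 6, nat_lit 0, nat_lit 1, nat_lit 2, nat_lit 3, nat_lit 4, nat_lit 5, nat_lit 6, nat_lit 0, nat_lit 1, nat_lit 2, nat_lit 3, nat_lit 4, nat_lit 5, nat_lit 6, nat_lit 0, nat_lit 1, nat_lit 2, nat_lit 3, nat_lit 4, nat_lit 5, nat_lit 6, nat_lit 0, nat_lit 1, nat_lit 2, nat_lit 3, nat_lit 4, nat_lit 5, nat_lit 6, nat_lit 0, nat_lit 1])))) (.node (nat_lit 255) (.node (nat_lit 254) (.leaf (nat_lit 197) (nat_lit 1) [nat_lit 2, nat_lit 3, nat_lit 4, nat_lit 5, nat_lit 6, nat_lit 0, nat_lit 1, nat_lit 2, nat_lit 3, nat_lit 4, nat_lit 5, nat_lit 6, nat_lit 0, nat_lit 1, nat_lit 2, nat_lit 3, nat_lit 4, nat_lit 5, nat_lit 6, nat_lit 0, nat_lit 1, nat_lit 2, nat_lit 3, nat_lit 4, nat_lit 5, nat_lit 6, nat_lit 0, nat_lit 1, nat_lit 2, nat_lit 3, nat_lit 4, nat_lit 5, nat_lit 6, nat_lit 0, nat_lit 1, nat_lit 2, nat_lit 3, nat_lit 4, nat_lit 5, nat_lit 6, nat_lit 0, nat_lit 1, nat_lit 2, nat_lit 3, nat_lit 4, nat_lit 5, nat_lit 6, nat_lit 0, nat_lit 1, nat_lit 2, nat_lit 3, nat_lit 4, nat_lit 5, nat_lit 6, nat_lit 0, nat_lit 1, nat_lit 2, nat_lit 3, nat_lit 4, nat_lit 5, nat_lit 6, nat_lit 0]) (.leaf (nat_lit 198) (nat_lit 0) [nat_lit 1, nat_lit 2, nat_lit 3, nat_lit 4, nat_lit 5, nat_lit 6, nat_lit 0, nat_lit 1, nat_lit 2, nat_lit 3, nat_lit 4, nat_lit 5, nat_lit 6, nat_lit 0, nat_lit 1, nat_lit 2, nat_lit 3, nat_lit 4, nat_lit 5, nat_lit 6, nat_lit 0, nat_lit 1, nat_lit 2, nat_lit 3, nat_lit 4, nat_lit 5, nat_lit 6, nat_lit 0, nat_lit 1, nat_lit 2, nat_lit 3, nat_lit 4, nat_lit 5, nat_lit 6, nat_lit 0, nat_lit 1, nat_lit 2, nat_lit 3, nat_lit 4, nat_lit 5, nat_lit 6, nat_lit 0, nat_lit 1, nat_lit 2, nat_lit 3, nat_lit 4, nat_lit 5, nat_lit 6, nat_lit 0, nat_lit 1, nat_lit 2, nat_lit 3, nat_lit 4, nat_lit 5, nat_lit 6, nat_lit 0, nat_lit 1, nat_lit 2, nat_lit 3, nat_lit 4, nat_lit 5, nat_lit 6])) (.node (nat_lit 256) (.leaf (nat_lit 255) (nat_lit 0) [nat_lit 6, nat_lit 5, nat_lit 4, nat_lit 3, nat_lit 2, nat_lit 1, nat_lit 0, nat_lit 6, nat_lit 5, nat_lit 4, nat_lit 3, nat_lit 2, nat_lit 1, nat_lit 0, nat_lit 6, nat_lit 5, nat_lit 4, nat_lit 3, nat_lit 2, nat_lit 1, nat_lit 0, nat_lit 6, nat_lit 5, nat_lit 4, nat_lit 3, nat_lit 2, nat_lit 1, nat_lit 0, nat_lit 6, nat_lit 5, nat_lit 4, nat_lit 3, nat_lit 2, nat_lit 1, nat_lit 0, nat_lit 6, nat_lit 5, nat_lit 4, nat_lit 3, nat_lit 2, nat_lit 1, nat_lit 0, nat_lit 6, nat_lit 5, nat_lit 4, nat_lit 3, nat_lit 2, nat_lit 1, nat_lit 0, nat_lit 6, nat_lit 5, nat_lit 4, nat_lit 3, nat_lit 2, nat_lit 1, nat_lit 0, nat_lit 6, nat_lit 5, nat_lit 4, nat_lit 3, nat_lit 2, nat_lit 1]) (.node (nat_lit 257) (.leaf (nat_lit 256) (nat_lit 1) [nat_lit 0, nat_lit 6, nat_lit 5, nat_lit 4, nat_lit 3, nat_lit 2, nat_lit 1, nat_lit 0, nat_lit 6, nat_lit 5, nat_lit 4, nat_lit 3, nat_lit 2, nat_lit 1, nat_lit 0, nat_lit 6, nat_lit 5, nat_lit 4, nat_lit 3, nat_lit 2, nat_lit 1, nat_lit 0, nat_lit 6, nat_lit 5, nat_lit 4, nat_lit 3, nat_lit 2, nat_lit 1, nat_lit 0, nat_lit 6, nat_lit 5, nat_lit 4, nat_lit 3, nat_lit 2, nat_lit 1, nat_lit 0, nat_lit 6, nat_lit 5, nat_lit 4, nat_lit 3, nat_lit 2, nat_lit 1, nat_lit 0, nat_lit 6, nat_lit 5, nat_lit 4, nat_lit 3, nat_lit 2, nat_lit 1, nat_lit 0, nat_lit 6, nat_lit 5, nat_lit 4, nat_lit 3, nat_lit 2, nat_lit 1, nat_lit 0, nat_lit 6, nat_lit 5, nat_lit 4, nat_lit 3, nat_lit 2]) (.leaf (nat_lit 257) (nat_lit 2) [nat_lit 1, nat_lit 0, nat_lit 6, nat_lit 5, nat_lit 4, nat_lit 3, nat_lit 2, nat_lit 1, nat_lit 0, nat_lit 6, nat_lit 5, nat_lit 4, nat_lit 3, nat_lit 2, nat_lit 1, nat_lit 0, nat_lit 6, nat_lit 5, nat_lit 4, nat_lit 3, nat_lit 2, nat_lit 1, nat_lit 0, nat_lit 6, nat_lit 5, nat_lit 4, nat_lit 3, nat_lit 2, nat_lit 1, nat_lit 0, nat_lit 6, nat_lit 5, nat_lit 4, nat_lit 3, nat_lit 2, nat_lit 1, nat_lit 0, nat_lit 6, nat_lit 5, nat_lit 4, nat_lit 3, nat_lit 2, nat_lit 1, nat_lit 0, nat_lit 6, nat_lit 5, nat_lit 4, nat_lit 3, nat_lit 2, nat_lit 1, nat_lit 0, nat_lit 6, nat_lit 5, nat_lit 4, nat_lit 3, nat_lit 2, nat_lit 1, nat_lit 0, nat_lit 6, nat_lit 5, nat_lit 4, nat_lit 3])))))) (.node (nat_lit 268) (.node (nat_lit 263) (.node (nat_lit 260) (.node (nat_lit 259) (.leaf (nat_lit 258) (nat_lit 3) [nat_lit 2, nat_lit 1, nat_lit 0, nat_lit 6, nat_lit 5, nat_lit 4, nat_lit 3, nat_lit 2, nat_lit 1, nat_lit 0, nat_lit 6, nat_lit 5, nat_lit 4, nat_lit 3, nat_lit 2, nat_lit 1, nat_lit 0, nat_lit 6, nat_lit 5, nat_lit 4, nat_lit 3, nat_lit 2, nat_lit 1, nat_lit 0, nat_lit 6, nat_lit 5, nat_lit 4, nat_lit 3, nat_lit 2, nat_lit 1, nat_lit 0, nat_lit 6, nat_lit 5, nat_lit 4, nat_lit 3, nat_lit 2, nat_lit 1, nat_lit 0, nat_lit 6, nat_lit 5, nat_lit 4, nat_lit 3, nat_lit 2, nat_lit 1, nat_lit 0, nat_lit 6, nat_lit 5, nat_lit 4, nat_lit 3, nat_lit 2, nat_lit 1, nat_lit 0, nat_lit 6, nat_lit 5, nat_lit 4, nat_lit 3, nat_lit 2, nat_lit 1, nat_lit 0, nat_lit 6, nat_lit 5, nat_lit 4]) (.leaf (nat_lit 259) (nat_lit 4) [nat_lit 3, nat_lit 2, nat_lit 1, nat_lit 0, nat_lit 6, nat_lit 5, nat_lit 4, nat_lit 3, nat_lit 2, nat_lit 1, nat_lit 0, nat_lit 6, nat_lit 5, nat_lit 4, nat_lit 3, nat_lit 2, nat_lit 1, nat_lit 0, nat_lit 6, nat_lit 5, nat_lit 4, nat_lit 3, nat_lit 2, nat_lit 1, nat_lit 0, nat_lit 6, nat_lit 5, nat_lit 4, nat_lit 3, nat_lit 2, nat_lit 1, nat_lit 0, nat_lit 6, nat_lit 5, nat_lit 4, nat_lit 3, nat_lit 2, nat_lit 1, nat_lit 0, nat_lit 6, nat_lit 5, nat_lit 4, nat_lit 3, nat_lit 2, nat_lit 1, nat_lit 0, nat_lit 6, nat_lit 5, nat_lit 4, nat_lit 3, nat_lit 2, nat_lit 1, nat_lit 0, nat_lit 6, nat_lit 5, nat_lit 4, nat_lit 3, nat_lit 2, nat_lit 1, nat_lit 0, nat_lit 6, nat_lit 5])) (.node (nat_lit 261) (.leaf (nat_lit 260) (nat_lit 5) [nat_lit 4, nat_lit 3, nat_lit 2, nat_lit 1, nat_lit 0, nat_lit 6, nat_lit 5, nat_lit 4, nat_lit 3, nat_lit 2, nat_lit 1, nat_lit 0, nat_lit 6, nat_lit 5, nat_lit 4, nat_lit 3, nat_lit 2, nat_lit 1, nat_lit 0, nat_lit 6, nat_lit 5, nat_lit 4, nat_lit 3, nat_lit 2, nat_lit 1, nat_lit 0, nat_lit 6, nat_lit 5, nat_lit 4, nat_lit 3, nat_lit 2, nat_lit 1, nat_lit 0, nat_lit 6, nat_lit 5, nat_lit 4, nat_lit 3, nat_lit 2, nat_lit 1, nat_lit 0, nat_lit 6, nat_lit 5, nat_lit 4, nat_lit 3, nat_lit 2, nat_lit 1, nat_lit 0, nat_lit 6, nat_lit 5, nat_lit 4, nat_lit 3, nat_lit 2, nat_lit 1, nat_lit 0, nat_lit 6, nat_lit 5, nat_lit 4, nat_lit 3, nat_lit 2, nat_lit 1, nat_lit 0, nat_lit 6]) (.node (nat_lit 262) (.leaf (nat_lit 261) (nat_lit 6) [nat_lit 5, nat_lit 4, nat_lit 3, nat_lit 2, nat_lit 1, nat_lit 0, nat_lit 6, nat_lit 5, nat_lit 4, nat_lit 3, nat_lit 2, nat_lit 1, nat_lit 0, nat_lit 6, nat_lit 5, nat_lit 4, nat_lit 3, nat_lit 2, nat_lit 1, nat_lit 0, nat_lit 6, nat_lit 5, nat_lit 4, nat_lit 3, nat_lit 2, nat_lit 1, nat_lit 0, nat_lit 6, nat_lit 5, nat_lit 4, nat_lit 3, nat_lit 2, nat_lit 1, nat_lit 0, nat_lit 6, nat_lit 5, nat_lit 4, nat_lit 3, nat_lit 2, nat_lit 1, nat_lit 0, nat_lit 6, nat_lit 5, nat_lit 4, nat_lit 3, nat_lit 2, nat_lit 1, nat_lit 0, nat_lit 6, nat_lit 5, nat_lit 4, nat_lit 3, nat_lit 2, nat_lit 1, nat_lit 0, nat_lit 6, nat_lit 5, nat_lit 4, nat_lit 3, nat_lit 2, nat_lit 1, nat_lit 0]) (.leaf (nat_lit 255) (nat_lit 0) [nat_lit 6, nat_lit 5, nat_lit 4, nat_lit 3, nat_lit 2, nat_lit 1, nat_lit 0, nat_lit 6, nat_lit 5, nat_lit 4, nat_lit 3, nat_lit 2, nat_lit 1, nat_lit 0, nat_lit 6, nat_lit 5, nat_lit 4, nat_lit 3, nat_lit 2, nat_lit 1, nat_lit 0, nat_lit 6, nat_lit 5, nat_lit 4, nat_lit 3, nat_lit 2, nat_lit 1, nat_lit 0, nat_lit 6, nat_lit 5, nat_lit 4, nat_lit 3, nat_lit 2, nat_lit 1, nat_lit 0, nat_lit 6, nat_lit 5, nat_lit 4, nat_lit 3, nat_lit 2, nat_lit 1, nat_lit 0, nat_lit 6, nat_lit 5, nat_lit 4, nat_lit 3, nat_lit 2, nat_lit 1, nat_lit 0, nat_lit 6, nat_lit 5, nat_lit 4, nat_lit 3, nat_lit 2, nat_lit 1, nat_lit 0, nat_lit 6, nat_lit 5, nat_lit 4, nat_lit 3, nat_lit 2, nat_lit 1])))) (.node (nat_lit 265) (.node (nat_lit 264) (.leaf (nat_lit 256) (nat_lit 1) [nat_lit 0, nat_lit 6, nat_lit 5, nat_lit 4, nat_lit 3, nat_lit 2, nat_lit 1, nat_lit 0, nat_lit 6, nat_lit 5, nat_lit 4, nat_lit 3, nat_lit 2, nat_lit 1, nat_lit 0, nat_lit 6, nat_lit 5, nat_lit 4, nat_lit 3, nat_lit 2, nat_lit 1, nat_lit 0, nat_lit 6, nat_lit 5, nat_lit 4, nat_lit 3, nat_lit 2, nat_lit 1, nat_lit 0, nat_lit 6, nat_lit 5, nat_lit 4, nat_lit 3, nat_lit 2, nat_lit 1, nat_lit 0, nat_lit 6, nat_lit 5, nat_lit 4, nat_lit 3, nat_lit 2, nat_lit 1, nat_lit 0, nat_lit 6, nat_lit 5, nat_lit 4, nat_lit 3, nat_lit 2, nat_lit 1, nat_lit 0, nat_lit 6, nat_lit 5, nat_lit 4, nat_lit 3, nat_lit 2, nat_lit 1, nat_lit 0, nat_lit 6, nat_lit 5, nat_lit 4, nat_lit 3, nat_lit 2]) (.leaf (nat_lit 257) (nat_lit 2) [nat_lit 1, nat_lit 0, nat_lit 6, nat_lit 5, nat_lit 4, nat_lit 3, nat_lit 2, nat_lit 1, nat_lit 0, nat_lit 6, nat_lit 5, nat_lit 4, nat_lit 3, nat_lit 2, nat_lit 1, nat_lit 0, nat_lit 6, nat_lit 5, nat_lit 4, nat_lit 3, nat_lit 2, nat_lit 1, nat_lit 0, nat_lit 6, nat_lit 5, nat_lit 4, nat_lit 3, nat_lit 2, nat_lit 1, nat_lit 0, nat_lit 6, nat_lit 5, nat_lit 4, nat_lit 3, nat_lit 2, nat_lit 1, nat_lit 0, nat_lit 6, nat_lit 5, nat_lit 4, nat_lit 3, nat_lit 2, nat_lit 1, nat_lit 0, nat_lit 6, nat_lit 5, nat_lit 4, nat_lit 3, nat_lit 2, nat_lit 1, nat_lit 0, nat_lit 6, nat_lit 5, nat_lit 4, nat_lit 3, nat_lit 2, nat_lit 1, nat_lit 0, nat_lit 6, nat_lit 5, nat_lit 4, nat_lit 3])) (.node (nat_lit 266) (.leaf (nat_lit 258) (nat_lit 3) [nat_lit 2, nat_lit 1, nat_lit 0, nat_lit 6, nat_lit 5, nat_lit 4, nat_lit 3, nat_lit 2, nat_lit 1, nat_lit 0, nat_lit 6, nat_lit 5, nat_lit 4, nat_lit 3, nat_lit 2, nat_lit 1, nat_lit 0, nat_lit 6, nat_lit 5, nat_lit 4, nat_lit 3, nat_lit 2, nat_lit 1, nat_lit 0, nat_lit 6, nat_lit 5, nat_lit 4, nat_lit 3, nat_lit 2, nat_lit 1, nat_lit 0, nat_lit 6, nat_lit 5, nat_lit 4, nat_lit 3, nat_lit 2, nat_lit 1, nat_lit 0, nat_lit 6, nat_lit 5, nat_lit 4, nat_lit 3, nat_lit 2, nat_lit 1, nat_lit 0, nat_lit 6, nat_lit 5, nat_lit 4, nat_lit 3, nat_lit 2, nat_lit 1, nat_lit 0, nat_lit 6, nat_lit 5, nat_lit 4, nat_lit 3, nat_lit 2, nat_lit 1, nat_lit 0, nat_lit 6, nat_lit 5, nat_lit 4]) (.node (nat_lit 267) (.leaf (nat_lit 259) (nat_lit 4) [nat_lit 3, nat_lit 2, nat_lit 1, nat_lit 0, nat_lit 6, nat_lit 5, nat_lit 4, nat_lit 3, nat_lit 2, nat_lit 1, nat_lit 0, nat_lit 6, nat_lit 5, nat_lit 4, nat_lit 3, nat_lit 2, nat_lit 1, nat_lit 0, nat_lit 6, nat_lit 5, nat_lit 4, nat_lit 3, nat_lit 2, nat_lit 1, nat_lit 0, nat_lit 6, nat_lit 5, nat_lit 4, nat_lit 3, nat_lit 2, nat_lit 1, nat_lit 0, nat_lit 6, nat_lit 5, nat_lit 4, nat_lit 3, nat_lit 2, nat_lit 1, nat_lit 0, nat_lit 6, nat_lit 5, nat_lit 4, nat_lit 3, nat_lit 2, nat_lit 1, nat_lit 0, nat_lit 6, nat_lit 5, nat_lit 4, nat_lit 3, nat_lit 2, nat_lit 1, nat_lit 0, nat_lit 6, nat_lit 5, nat_lit 4, nat_lit 3, nat_lit 2, nat_lit 1, nat_lit 0, nat_lit 6, nat_lit 5]) (.leaf (nat_lit 260) (nat_lit 5) [nat_lit 4, nat_lit 3, nat_lit 2, nat_lit 1, nat_lit 0, nat_lit 6, nat_lit 5, nat_lit 4, nat_lit 3, nat_lit 2, nat_lit 1, nat_lit 0, nat_lit 6, nat_lit 5, nat_lit 4, nat_lit 3, nat_lit 2, nat_lit 1, nat_lit 0, nat_lit 6, nat_lit 5, nat_lit 4, nat_lit 3, nat_lit 2, nat_lit 1, nat_lit 0, nat_lit 6, nat_lit 5, nat_lit 4, nat_lit 3, nat_lit 2, nat_lit 1, nat_lit 0, nat_lit 6, nat_lit 5, nat_lit 4, nat_lit 3, nat_lit 2, nat_lit 1, nat_lit 0, nat_lit 6, nat_lit 5, nat_lit 4, nat_lit 3, nat_lit 2, nat_lit 1, nat_lit 0, nat_lit 6, nat_lit 5, nat_lit 4, nat_lit 3, nat_lit 2, nat_lit 1, nat_lit 0, nat_lit 6, nat_lit 5, nat_lit 4, nat_lit 3, nat_lit 2, nat_lit 1, nat_lit 0, nat_lit 6]))))) (.node (nat_lit 273) (.node (nat_lit 270) (.node (nat_lit 269) (.leaf (nat_lit 261) (nat_lit 6) [nat_lit 5, nat_lit 4, nat_lit 3, nat_lit 2, nat_lit 1, nat_lit 0, nat_lit 6, nat_lit 5, nat_lit 4, nat_lit 3, nat_lit 2, nat_lit 1, nat_lit 0, nat_lit 6, nat_lit 5, nat_lit 4, nat_lit 3, nat_lit 2, nat_lit 1, nat_lit 0, nat_lit 6, nat_lit 5, nat_lit 4, nat_lit 3, nat_lit 2, nat_lit 1, nat_lit 0, nat_lit 6, nat_lit 5, nat_lit 4, nat_lit 3, nat_lit 2, nat_lit 1, nat_lit 0, nat_lit 6, nat_lit 5, nat_lit 4, nat_lit 3, nat_lit 2, nat_lit 1, nat_lit 0, nat_lit 6, nat_lit 5, nat_lit 4, nat_lit 3, nat_lit 2, nat_lit 1, nat_lit 0, nat_lit 6, nat_lit 5, nat_lit 4, nat_lit 3, nat_lit 2, nat_lit 1, nat_lit 0, nat_lit 6, nat_lit 5, nat_lit 4, nat_lit 3, nat_lit 2, nat_lit 1, nat_lit 0]) (.leaf (nat_lit 255) (nat_lit 0) [nat_lit 6, nat_lit 5, nat_lit 4, nat_lit 3, nat_lit 2, nat_lit 1, nat_lit 0, nat_lit 6, nat_lit 5, nat_lit 4, nat_lit 3, nat_lit 2, nat_lit 1, nat_lit 0, nat_lit 6, nat_lit 5, nat_lit 4, nat_lit 3, nat_lit 2, nat_lit 1, nat_lit 0, nat_lit 6, nat_lit 5, nat_lit 4, nat_lit 3, nat_lit 2, nat_lit 1, nat_lit 0, nat_lit 6, nat_lit 5, nat_lit 4, nat_lit 3, nat_lit 2, nat_lit 1, nat_lit 0, nat_lit 6, nat_lit 5, nat_lit 4, nat_lit 3, nat_lit 2, nat_lit 1, nat_lit 0, nat_lit 6, nat_lit 5, nat_lit 4, nat_lit 3, nat_lit 2, nat_lit 1, nat_lit 0, nat_lit 6, nat_lit 5, nat_lit 4, nat_lit 3, nat_lit 2, nat_lit 1, nat_lit 0, nat_lit 6, nat_lit 5, nat_lit 4, nat_lit 3, nat_lit 2, nat_lit 1])) (.node (nat_lit 271) (.leaf (nat_lit 256) (nat_lit 1) [nat_lit 0, nat_lit 6, nat_lit 5, nat_lit 4, nat_lit 3, nat_lit 2, nat_lit 1, nat_lit 0, nat_lit 6, nat_lit 5, nat_lit 4, nat_lit 3, nat_lit 2, nat_lit 1, nat_lit 0, nat_lit 6, nat_lit 5, nat_lit 4, nat_lit 3, nat_lit 2, nat_lit 1, nat_lit 0, nat_lit 6, nat_lit 5, nat_lit 4, nat_lit 3, nat_lit 2, nat_lit 1, nat_lit 0, nat_lit 6, nat_lit 5, nat_lit 4, nat_lit 3, nat_lit 2, nat_lit 1, nat_lit 0, nat_lit 6, nat_lit 5, nat_lit 4, nat_lit 3, nat_lit 2, nat_lit 1, nat_lit 0, nat_lit 6, nat_lit 5, nat_lit 4, nat_lit 3, nat_lit 2, nat_lit 1, nat_lit 0, nat_lit 6, nat_lit 5, nat_lit 4, nat_lit 3, nat_lit 2, nat_lit 1, nat_lit 0, nat_lit 6, nat_lit 5, nat_lit 4, nat_lit 3, nat_lit 2]) (.node (nat_lit 272) (.leaf (nat_lit 257) (nat_lit 2) [nat_lit 1, nat_lit 0, nat_lit 6, nat_lit 5, nat_lit 4, nat_lit 3, nat_lit 2, nat_lit 1, nat_lit 0, nat_lit 6, nat_lit 5, nat_lit 4, nat_lit 3, nat_lit 2, nat_lit 1, nat_lit 0, nat_lit 6, nat_lit 5, nat_lit 4, nat_lit 3, nat_lit 2, nat_lit 1, nat_lit 0, nat_lit 6, nat_lit 5, nat_lit 4, nat_lit 3, nat_lit 2, nat_lit 1, nat_lit 0, nat_lit 6, nat_lit 5, nat_lit 4, nat_lit 3, nat_lit 2, nat_lit 1, nat_lit 0, nat_lit 6, nat_lit 5, nat_lit 4, nat_lit 3, nat_lit 2, nat_lit 1, nat_lit 0, nat_lit 6, nat_lit 5, nat_lit 4, nat_lit 3, nat_lit 2, nat_lit 1, nat_lit 0, nat_lit 6, nat_lit 5, nat_lit 4, nat_lit 3, nat_lit 2, nat_lit 1, nat_lit 0, nat_lit 6, nat_lit 5, nat_lit 4, nat_lit 3]) (.leaf (nat_lit 258) (nat_lit 3) [nat_lit 2, nat_lit 1, nat_lit 0, nat_lit 6, nat_lit 5, nat_lit 4, nat_lit 3, nat_lit 2, nat_lit 1, nat_lit 0, nat_lit 6, nat_lit 5, nat_lit 4, nat_lit 3, nat_lit 2, nat_lit 1, nat_lit 0, nat_lit 6, nat_lit 5, nat_lit 4, nat_lit 3, nat_lit 2, nat_lit 1, nat_lit 0, nat_lit 6, nat_lit 5, nat_lit 4, nat_lit 3, nat_lit 2, nat_lit 1, nat_lit 0, nat_lit 6, nat_lit 5, nat_lit 4, nat_lit 3, nat_lit 2, nat_lit 1, nat_lit 0, nat_lit 6, nat_lit 5, nat_lit 4, nat_lit 3, nat_lit 2, nat_lit 1, nat_lit 0, nat_lit 6, nat_lit 5, nat_lit 4, nat_lit 3, nat_lit 2, nat_lit 1, nat_lit 0, nat_lit 6, nat_lit 5, nat_lit 4, nat_lit 3, nat_lit 2, nat_lit 1, nat_lit 0, nat_lit 6, nat_lit 5, nat_lit 4])))) (.node (nat_lit 275) (.node (nat_lit 274) (.leaf (nat_lit 259) (nat_lit 4) [nat_lit 3, nat_lit 2, nat_lit 1, nat_lit 0, nat_lit 6, nat_lit 5, nat_lit 4, nat_lit 3, nat_lit 2, nat_lit 1, nat_lit 0, nat_lit 6, nat_lit 5, nat_lit 4, nat_lit 3, nat_lit 2, nat_lit 1, nat_lit 0, nat_lit 6, nat_lit 5, nat_lit 4, nat_lit 3, nat_lit 2, nat_lit 1, nat_lit 0, nat_lit 6, nat_lit 5, nat_lit 4, nat_lit 3, nat_lit 2, nat_lit 1, nat_lit 0, nat_lit 6, nat_lit 5, nat_lit 4, nat_lit 3, nat_lit 2, nat_lit 1, nat_lit 0, nat_lit 6, nat_lit 5, nat_lit 4, nat_lit 3, nat_lit 2, nat_lit 1, nat_lit 0, nat_lit 6, nat_lit 5, nat_lit 4, nat_lit 3, nat_lit 2, nat_lit 1, nat_lit 0, nat_lit 6, nat_lit 5, nat_lit 4, nat_lit 3, nat_lit 2, nat_lit 1, nat_lit 0, nat_lit 6, nat_lit 5]) (.leaf (nat_lit 260) (nat_lit 5) [nat_lit 4, nat_lit 3, nat_lit 2, nat_lit 1, nat_lit 0, nat_lit 6, nat_lit 5, nat_lit 4, nat_lit 3, nat_lit 2, nat_lit 1, nat_lit 0, nat_lit 6, nat_lit 5, nat_lit 4, nat_lit 3, nat_lit 2, nat_lit 1, nat_lit 0, nat_lit 6, nat_lit 5, nat_lit 4, nat_lit 3, nat_lit 2, nat_lit 1, nat_lit 0, nat_lit 6, nat_lit 5, nat_lit 4, nat_lit 3, nat_lit 2, nat_lit 1, nat_lit 0, nat_lit 6, nat_lit 5, nat_lit 4, nat_lit 3, nat_lit 2, nat_lit 1, nat_lit 0, nat_lit 6, nat_lit 5, nat_lit 4, nat_lit 3, nat_lit 2, nat_lit 1, nat_lit 0, nat_lit 6, nat_lit 5, nat_lit 4, nat_lit 3, nat_lit 2, nat_lit 1, nat_lit 0, nat_lit 6, nat_lit 5, nat_lit 4, nat_lit 3, nat_lit 2, nat_lit 1, nat_lit 0, nat_lit 6])) (.node (nat_lit 276) (.leaf (nat_lit 261) (nat_lit 6) [nat_lit 5, nat_lit 4, nat_lit 3, nat_lit 2, nat_lit 1, nat_lit 0, nat_lit 6, nat_lit 5, nat_lit 4, nat_lit 3, nat_lit 2, nat_lit 1, nat_lit 0, nat_lit 6, nat_lit 5, nat_lit 4, nat_lit 3, nat_lit 2, nat_lit 1, nat_lit 0, nat_lit 6, nat_lit 5, nat_lit 4, nat_lit 3, nat_lit 2, nat_lit 1, nat_lit 0, nat_lit 6, nat_lit 5, nat_lit 4, nat_lit 3, nat_lit 2, nat_lit 1, nat_lit 0, nat_lit 6, nat_lit 5, nat_lit 4, nat_lit 3, nat_lit 2, nat_lit 1, nat_lit 0, nat_lit 6, nat_lit 5, nat_lit 4, nat_lit 3, nat_lit 2, nat_lit 1, nat_lit 0, nat_lit 6, nat_lit 5, nat_lit 4, nat_lit 3, nat_lit 2, nat_lit 1, nat_lit 0, nat_lit 6, nat_lit 5, nat_lit 4, nat_lit 3, nat_lit 2, nat_lit 1, nat_lit 0]) (.node (nat_lit 277) (.leaf (nat_lit 255) (nat_lit 0) [nat_lit 6, nat_lit 5, nat_lit 4, nat_lit 3, nat_lit 2, nat_lit 1, nat_lit 0, nat_lit 6, nat_lit 5, nat_lit 4, nat_lit 3, nat_lit 2, nat_lit 1, nat_lit 0, nat_lit 6, nat_lit 5, nat_lit 4, nat_lit 3, nat_lit 2, nat_lit 1, nat_lit 0, nat_lit 6, nat_lit 5, nat_lit 4, nat_lit 3, nat_lit 2, nat_lit 1, nat_lit 0, nat_lit 6, nat_lit 5, nat_lit 4, nat_lit 3, nat_lit 2, nat_lit 1, nat_lit 0, nat_lit 6, nat_lit 5, nat_lit 4, nat_lit 3, nat_lit 2, nat_lit 1, nat_lit 0, nat_lit 6, nat_lit 5, nat_lit 4, nat_lit 3, nat_lit 2, nat_lit 1, nat_lit 0, nat_lit 6, nat_lit 5, nat_lit 4, nat_lit 3, nat_lit 2, nat_lit 1, nat_lit 0, nat_lit 6, nat_lit 5, nat_lit 4, nat_lit 3, nat_lit 2, nat_lit 1]) (.leaf (nat_lit 256) (nat_lit 1) [nat_lit 0, nat_lit 6, nat_lit 5, nat_lit 4, nat_lit 3, nat_lit 2, nat_lit 1, nat_lit 0, nat_lit 6, nat_lit 5, nat_lit 4, nat_lit 3, nat_lit 2, nat_lit 1, nat_lit 0, nat_lit 6, nat_lit 5, nat_lit 4, nat_lit 3, nat_lit 2, nat_lit 1, nat_lit 0, nat_lit 6, nat_lit 5, nat_lit 4, nat_lit 3, nat_lit 2, nat_lit 1, nat_lit 0, nat_lit 6, nat_lit 5, nat_lit 4, nat_lit 3, nat_lit 2, nat_lit 1, nat_lit 0, nat_lit 6, nat_lit 5, nat_lit 4, nat_lit 3, nat_lit 2, nat_lit 1, nat_lit 0, nat_lit 6, nat_lit 5, nat_lit 4, nat_lit 3, nat_lit 2, nat_lit 1, nat_lit 0, nat_lit 6, nat_lit 5, nat_lit 4, nat_lit 3, nat_lit 2, nat_lit 1, nat_lit 0, nat_lit 6, nat_lit 5, nat_lit 4, nat_lit 3, nat_lit 2]))))))) (.node (nat_lit 298) (.node (nat_lit 288) (.node (nat_lit 283) (.node (nat_lit 280) (.node (nat_lit 279) (.leaf (nat_lit 257) (nat_lit 2) [nat_lit 1, nat_lit 0, nat_lit 6, nat_lit 5, nat_lit 4, nat_lit 3, nat_lit 2, nat_lit 1, nat_lit 0, nat_lit 6, nat_lit 5, nat_lit 4, nat_lit 3, nat_lit 2, nat_lit 1, nat_lit 0, nat_lit 6, nat_lit 5, nat_lit 4, nat_lit 3, nat_lit 2, nat_lit 1, nat_lit 0, nat_lit 6, nat_lit 5, nat_lit 4, nat_lit 3, nat_lit 2, nat_lit 1, nat_lit 0, nat_lit 6, nat_lit 5, nat_lit 4, nat_lit 3, nat_lit 2, nat_lit 1, nat_lit 0, nat_lit 6, nat_lit 5, nat_lit 4, nat_lit 3, nat_lit 2, nat_lit 1, nat_lit 0, nat_lit 6, nat_lit 5, nat_lit 4, nat_lit 3, nat_lit 2, nat_lit 1, nat_lit 0, nat_lit 6, nat_lit 5, nat_lit 4, nat_lit 3, nat_lit 2, nat_lit 1, nat_lit 0, nat_lit 6, nat_lit 5, nat_lit 4, nat_lit 3]) (.leaf (nat_lit 258) (nat_lit 3) [nat_lit 2, nat_lit 1, nat_lit 0, nat_lit 6, nat_lit 5, nat_lit 4, nat_lit 3, nat_lit 2, nat_lit 1, nat_lit 0, nat_lit 6, nat_lit 5, nat_lit 4, nat_lit 3, nat_lit 2, nat_lit 1, nat_lit 0, nat_lit 6, nat_lit 5, nat_lit 4, nat_lit 3, nat_lit 2, nat_lit 1, nat_lit 0, nat_lit 6, nat_lit 5, nat_lit 4, nat_lit 3, nat_lit 2, nat_lit 1, nat_lit 0, nat_lit 6, nat_lit 5, nat_lit 4, nat_lit 3, nat_lit 2, nat_lit 1, nat_lit 0, nat_lit 6, nat_lit 5, nat_lit 4, nat_lit 3, nat_lit 2, nat_lit 1, nat_lit 0, nat_lit 6, nat_lit 5, nat_lit 4, nat_lit 3, nat_lit 2, nat_lit 1, nat_lit 0, nat_lit 6, nat_lit 5, nat_lit 4, nat_lit 3, nat_lit 2, nat_lit 1, nat_lit 0, nat_lit 6, nat_lit 5, nat_lit 4])) (.node (nat_lit 281) (.leaf (nat_lit 259) (nat_lit 4) [nat_lit 3, nat_lit 2, nat_lit 1, nat_lit 0, nat_lit 6, nat_lit 5, nat_lit 4, nat_lit 3, nat_lit 2, nat_lit 1, nat_lit 0, nat_lit 6, nat_lit 5, nat_lit 4, nat_lit 3, nat_lit 2, nat_lit 1, nat_lit 0, nat_lit 6, nat_lit 5, nat_lit 4, nat_lit 3, nat_lit 2, nat_lit 1, nat_lit 0, nat_lit 6, nat_lit 5, nat_lit 4, nat_lit 3, nat_lit 2, nat_lit 1, nat_lit 0, nat_lit 6, nat_lit 5, nat_lit 4, nat_lit 3, nat_lit 2, nat_lit 1, nat_lit 0, nat_lit 6, nat_lit 5, nat_lit 4, nat_lit 3, nat_lit 2, nat_lit 1, nat_lit 0, nat_lit 6, nat_lit 5, nat_lit 4, nat_lit 3, nat_lit 2, nat_lit 1, nat_lit 0, nat_lit 6, nat_lit 5, nat_lit 4, nat_lit 3, nat_lit 2, nat_lit 1, nat_lit 0, nat_lit 6, nat_lit 5]) (.node (nat_lit 282) (.leaf (nat_lit 260) (nat_lit 5) [nat_lit 4, nat_lit 3, nat_lit 2, nat_lit 1, nat_lit 0, nat_lit 6, nat_lit 5, nat_lit 4, nat_lit 3, nat_lit 2, nat_lit 1, nat_lit 0, nat_lit 6, nat_lit 5, nat_lit 4, nat_lit 3, nat_lit 2, nat_lit 1, nat_lit 0, nat_lit 6, nat_lit 5, nat_lit 4, nat_lit 3, nat_lit 2, nat_lit 1, nat_lit 0, nat_lit 6, nat_lit 5, nat_lit 4, nat_lit 3, nat_lit 2, nat_lit 1, nat_lit 0, nat_lit 6, nat_lit 5, nat_lit 4, nat_lit 3, nat_lit 2, nat_lit 1, nat_lit 0, nat_lit 6, nat_lit 5, nat_lit 4, nat_lit 3, nat_lit 2, nat_lit 1, nat_lit 0, nat_lit 6, nat_lit 5, nat_lit 4, nat_lit 3, nat_lit 2, nat_lit 1, nat_lit 0, nat_lit 6, nat_lit 5, nat_lit 4, nat_lit 3, nat_lit 2, nat_lit 1, nat_lit 0, nat_lit 6]) (.leaf (nat_lit 261) (nat_lit 6) [nat_lit 5, nat_lit 4, nat_lit 3, nat_lit 2, nat_lit 1, nat_lit 0, nat_lit 6, nat_lit 5, nat_lit 4, nat_lit 3, nat_lit 2, nat_lit 1, nat_lit 0, nat_lit 6, nat_lit 5, nat_lit 4, nat_lit 3, nat_lit 2, nat_lit 1, nat_lit 0, nat_lit 6, nat_lit 5, nat_lit 4, nat_lit 3, nat_lit 2, nat_lit 1, nat_lit 0, nat_lit 6, nat_lit 5, nat_lit 4, nat_lit 3, nat_lit 2, nat_lit 1, nat_lit 0, nat_lit 6, nat_lit 5, nat_lit 4, nat_lit 3, nat_lit 2, nat_lit 1, nat_lit 0, nat_lit 6, nat_lit 5, nat_lit 4, nat_lit 3, nat_lit 2, nat_lit 1, nat_lit 0, nat_lit 6, nat_lit 5, nat_lit 4, nat_lit 3, nat_lit 2, nat_lit 1, nat_lit 0, nat_lit 6, nat_lit 5, nat_lit 4, nat_lit 3, nat_lit 2, nat_lit 1, nat_lit 0])))) (.node (nat_lit 285) (.node (nat_lit 284) (.leaf (nat_lit 255) (nat_lit 0) [nat_lit 6, nat_lit 5, nat_lit 4, nat_lit 3, nat_lit 2, nat_lit 1, nat_lit 0, nat_lit 6, nat_lit 5, nat_lit 4, nat_lit 3, nat_lit 2, nat_lit 1, nat_lit 0, nat_lit 6, nat_lit 5, nat_lit 4, nat_lit 3, nat_lit 2, nat_lit 1, nat_lit 0, nat_lit 6, nat_lit 5, nat_lit 4, nat_lit 3, nat_lit 2, nat_lit 1, nat_lit 0, nat_lit 6, nat_lit 5, nat_lit 4, nat_lit 3, nat_lit 2, nat_lit 1, nat_lit 0, nat_lit 6, nat_lit 5, nat_lit 4, nat_lit 3, nat_lit 2, nat_lit 1, nat_lit 0, nat_lit 6, nat_lit 5, nat_lit 4, nat_lit 3, nat_lit 2, nat_lit 1, nat_lit 0, nat_lit 6, nat_lit 5, nat_lit 4, nat_lit 3, nat_lit 2, nat_lit 1, nat_lit 0, nat_lit 6, nat_lit 5, nat_lit 4, nat_lit 3, nat_lit 2, nat_lit 1]) (.leaf (nat_lit 256) (nat_lit 1) [nat_lit 0, nat_lit 6, nat_lit 5, nat_lit 4, nat_lit 3, nat_lit 2, nat_lit 1, nat_lit 0, nat_lit 6, nat_lit 5, nat_lit 4, nat_lit 3, nat_lit 2, nat_lit 1, nat_lit 0, nat_lit 6, nat_lit 5, nat_lit 4, nat_lit 3, nat_lit 2, nat_lit 1, nat_lit 0, nat_lit 6, nat_lit 5, nat_lit 4, nat_lit 3, nat_lit 2, nat_lit 1, nat_lit 0, nat_lit 6, nat_lit 5, nat_lit 4, nat_lit 3, nat_lit 2, nat_lit 1, nat_lit 0, nat_lit 6, nat_lit 5, nat_lit 4, nat_lit 3, nat_lit 2, nat_lit 1, nat_lit 0, nat_lit 6, nat_lit 5, nat_lit 4, nat_lit 3, nat_lit 2, nat_lit 1, nat_lit 0, nat_lit 6, nat_lit 5, nat_lit 4, nat_lit 3, nat_lit 2, nat_lit 1, nat_lit 0, nat_lit 6, nat_lit 5, nat_lit 4, nat_lit 3, nat_lit 2])) (.node (nat_lit 286) (.leaf (nat_lit 257) (nat_lit 2) [nat_lit 1, nat_lit 0, nat_lit 6, nat_lit 5, nat_lit 4, nat_lit 3, nat_lit 2, nat_lit 1, nat_lit 0, nat_lit 6, nat_lit 5, nat_lit 4, nat_lit 3, nat_lit 2, nat_lit 1, nat_lit 0, nat_lit 6, nat_lit 5, nat_lit 4, nat_lit 3, nat_lit 2, nat_lit 1, nat_lit 0, nat_lit 6, nat_lit 5, nat_lit 4, nat_lit 3, nat_lit 2, nat_lit 1, nat_lit 0, nat_lit 6, nat_lit 5, nat_lit 4, nat_lit 3, nat_lit 2, nat_lit 1, nat_lit 0, nat_lit 6, nat_lit 5, nat_lit 4, nat_lit 3, nat_lit 2, nat_lit 1, nat_lit 0, nat_lit 6, nat_lit 5, nat_lit 4, nat_lit 3, nat_lit 2, nat_lit 1, nat_lit 0, nat_lit 6, nat_lit 5, nat_lit 4, nat_lit 3, nat_lit 2, nat_lit 1, nat_lit 0, nat_lit 6, nat_lit 5, nat_lit 4, nat_lit 3]) (.node (nat_lit 287) (.leaf (nat_lit 258) (nat_lit 3) [nat_lit 2, nat_lit 1, nat_lit 0, nat_lit 6, nat_lit 5, nat_lit 4, nat_lit 3, nat_lit 2, nat_lit 1, nat_lit 0, nat_lit 6, nat_lit 5, nat_lit 4, nat_lit 3, nat_lit 2, nat_lit 1, nat_lit 0, nat_lit 6, nat_lit 5, nat_lit 4, nat_lit 3, nat_lit 2, nat_lit 1, nat_lit 0, nat_lit 6, nat_lit 5, nat_lit 4, nat_lit 3, nat_lit 2, nat_lit 1, nat_lit 0, nat_lit 6, nat_lit 5, nat_lit 4, nat_lit 3, nat_lit 2, nat_lit 1, nat_lit 0, nat_lit 6, nat_lit 5, nat_lit 4, nat_lit 3, nat_lit 2, nat_lit 1, nat_lit 0, nat_lit 6, nat_lit 5, nat_lit 4, nat_lit 3, nat_lit 2, nat_lit 1, nat_lit 0, nat_lit 6, nat_lit 5, nat_lit 4, nat_lit 3, nat_lit 2, nat_lit 1, nat_lit 0, nat_lit 6, nat_lit 5, nat_lit 4]) (.leaf (nat_lit 259) (nat_lit 4) [nat_lit 3, nat_lit 2, nat_lit 1, nat_lit 0, nat_lit 6, nat_lit 5, nat_lit 4, nat_lit 3, nat_lit 2, nat_lit 1, nat_lit 0, nat_lit 6, nat_lit 5, nat_lit 4, nat_lit 3, nat_lit 2, nat_lit 1, nat_lit 0, nat_lit 6, nat_lit 5, nat_lit 4, nat_lit 3, nat_lit 2, nat_lit 1, nat_lit 0, nat_lit 6, nat_lit 5, nat_lit 4, nat_lit 3, nat_lit 2, nat_lit 1, nat_lit 0, nat_lit 6, nat_lit 5, nat_lit 4, nat_lit 3, nat_lit 2, nat_lit 1, nat_lit 0, nat_lit 6, nat_lit 5, nat_lit 4, nat_lit 3, nat_lit 2, nat_lit 1, nat_lit 0, nat_lit 6, nat_lit 5, nat_lit 4, nat_lit 3, nat_lit 2, nat_lit 1, nat_lit 0, nat_lit 6, nat_lit 5, nat_lit 4, nat_lit 3, nat_lit 2, nat_lit 1, nat_lit 0, nat_lit 6, nat_lit 5]))))) (.node (nat_lit 293) (.node (nat_lit 290) (.node (nat_lit 289) (.leaf (nat_lit 260) (nat_lit 5) [nat_lit 4, nat_lit 3, nat_lit 2, nat_lit 1, nat_lit 0, nat_lit 6, nat_lit 5, nat_lit 4, nat_lit 3, nat_lit 2, nat_lit 1, nat_lit 0, nat_lit 6, nat_lit 5, nat_lit 4, nat_lit 3, nat_lit 2, nat_lit 1, nat_lit 0, nat_lit 6, nat_lit 5, nat_lit 4, nat_lit 3, nat_lit 2, nat_lit 1, nat_lit 0, nat_lit 6, nat_lit 5, nat_lit 4, nat_lit 3, nat_lit 2, nat_lit 1, nat_lit 0, nat_lit 6, nat_lit 5, nat_lit 4, nat_lit 3, nat_lit 2, nat_lit 1, nat_lit 0, nat_lit 6, nat_lit 5, nat_lit 4, nat_lit 3, nat_lit 2, nat_lit 1, nat_lit 0, nat_lit 6, nat_lit 5, nat_lit 4, nat_lit 3, nat_lit 2, nat_lit 1, nat_lit 0, nat_lit 6, nat_lit 5, nat_lit 4, nat_lit 3, nat_lit 2, nat_lit 1, nat_lit 0, nat_lit 6]) (.leaf (nat_lit 261) (nat_lit 6) [nat_lit 5, nat_lit 4, nat_lit 3, nat_lit 2, nat_lit 1, nat_lit 0, nat_lit 6, nat_lit 5, nat_lit 4, nat_lit 3, nat_lit 2, nat_lit 1, nat_lit 0, nat_lit 6, nat_lit 5, nat_lit 4, nat_lit 3, nat_lit 2, nat_lit 1, nat_lit 0, nat_lit 6, nat_lit 5, nat_lit 4, nat_lit 3, nat_lit 2, nat_lit 1, nat_lit 0, nat_lit 6, nat_lit 5, nat_lit 4, nat_lit 3, nat_lit 2, nat_lit 1, nat_lit 0, nat_lit 6, nat_lit 5, nat_lit 4, nat_lit 3, nat_lit 2, nat_lit 1, nat_lit 0, nat_lit 6, nat_lit 5, nat_lit 4, nat_lit 3, nat_lit 2, nat_lit 1, nat_lit 0, nat_lit 6, nat_lit 5, nat_lit 4, nat_lit 3, nat_lit 2, nat_lit 1, nat_lit 0, nat_lit 6, nat_lit 5, nat_lit 4, nat_lit 3, nat_lit 2, nat_lit 1, nat_lit 0])) (.node (nat_lit 291) (.leaf (nat_lit 255) (nat_lit 0) [nat_lit 6, nat_lit 5, nat_lit 4, nat_lit 3, nat_lit 2, nat_lit 1, nat_lit 0, nat_lit 6, nat_lit 5, nat_lit 4, nat_lit 3, nat_lit 2, nat_lit 1, nat_lit 0, nat_lit 6, nat_lit 5, nat_lit 4, nat_lit 3, nat_lit 2, nat_lit 1, nat_lit 0, nat_lit 6, nat_lit 5, nat_lit 4, nat_lit 3, nat_lit 2, nat_lit 1, nat_lit 0, nat_lit 6, nat_lit 5, nat_lit 4, nat_lit 3, nat_lit 2, nat_lit 1, nat_lit 0, nat_lit 6, nat_lit 5, nat_lit 4, nat_lit 3, nat_lit 2, nat_lit 1, nat_lit 0, nat_lit 6, nat_lit 5, nat_lit 4, nat_lit 3, nat_lit 2, nat_lit 1, nat_lit 0, nat_lit 6, nat_lit 5, nat_lit 4, nat_lit 3, nat_lit 2, nat_lit 1, nat_lit 0, nat_lit 6, nat_lit 5, nat_lit 4, nat_lit 3, nat_lit 2, nat_lit 1]) (.node (nat_lit 292) (.leaf (nat_lit 256) (nat_lit 1) [nat_lit 0, nat_lit 6, nat_lit 5, nat_lit 4, nat_lit 3, nat_lit 2, nat_lit 1, nat_lit 0, nat_lit 6, nat_lit 5, nat_lit 4, nat_lit 3, nat_lit 2, nat_lit 1, nat_lit 0, nat_lit 6, nat_lit 5, nat_lit 4, nat_lit 3, nat_lit 2, nat_lit 1, nat_lit 0, nat_lit 6, nat_lit 5, nat_lit 4, nat_lit 3, nat_lit 2, nat_lit 1, nat_lit 0, nat_lit 6, nat_lit 5, nat_lit 4, nat_lit 3, nat_lit 2, nat_lit 1, nat_lit 0, nat_lit 6, nat_lit 5, nat_lit 4, nat_lit 3, nat_lit 2, nat_lit 1, nat_lit 0, nat_lit 6, nat_lit 5, nat_lit 4, nat_lit 3, nat_lit 2, nat_lit 1, nat_lit 0, nat_lit 6, nat_lit 5, nat_lit 4, nat_lit 3, nat_lit 2, nat_lit 1, nat_lit 0, nat_lit 6, nat_lit 5, nat_lit 4, nat_lit 3, nat_lit 2]) (.leaf (nat_lit 257) (nat_lit 2) [nat_lit 1, nat_lit 0, nat_lit 6, nat_lit 5, nat_lit 4, nat_lit 3, nat_lit 2, nat_lit 1, nat_lit 0, nat_lit 6, nat_lit 5, nat_lit 4, nat_lit 3, nat_lit 2, nat_lit 1, nat_lit 0, nat_lit 6, nat_lit 5, nat_lit 4, nat_lit 3, nat_lit 2, nat_lit 1, nat_lit 0, nat_lit 6, nat_lit 5, nat_lit 4, nat_lit 3, nat_lit 2, nat_lit 1, nat_lit 0, nat_lit 6, nat_lit 5, nat_lit 4, nat_lit 3, nat_lit 2, nat_lit 1, nat_lit 0, nat_lit 6, nat_lit 5, nat_lit 4, nat_lit 3, nat_lit 2, nat_lit 1, nat_lit 0, nat_lit 6, nat_lit 5, nat_lit 4, nat_lit 3, nat_lit 2, nat_lit 1, nat_lit 0, nat_lit 6, nat_lit 5, nat_lit 4, nat_lit 3, nat_lit 2, nat_lit 1, nat_lit 0, nat_lit 6, nat_lit 5, nat_lit 4, nat_lit 3])))) (.node (nat_lit 295) (.node (nat_lit 294) (.leaf (nat_lit 258) (nat_lit 3) [nat_lit 2, nat_lit 1, nat_lit 0, nat_lit 6, nat_lit 5, nat_lit 4, nat_lit 3, nat_lit 2, nat_lit 1, nat_lit 0, nat_lit 6, nat_lit 5, nat_lit 4, nat_lit 3, nat_lit 2, nat_lit 1, nat_lit 0, nat_lit 6, nat_lit 5, nat_lit 4, nat_lit 3, nat_lit 2, nat_lit 1, nat_lit 0, nat_lit 6, nat_lit 5, nat_lit 4, nat_lit 3, nat_lit 2, nat_lit 1, nat_lit 0, nat_lit 6, nat_lit 5, nat_lit 4, nat_lit 3, nat_lit 2, nat_lit 1, nat_lit 0, nat_lit 6, nat_lit 5, nat_lit 4, nat_lit 3, nat_lit 2, nat_lit 1, nat_lit 0, nat_lit 6, nat_lit 5, nat_lit 4, nat_lit 3, nat_lit 2, nat_lit 1, nat_lit 0, nat_lit 6, nat_lit 5, nat_lit 4, nat_lit 3, nat_lit 2, nat_lit 1, nat_lit 0, nat_lit 6, nat_lit 5, nat_lit 4]) (.leaf (nat_lit 259) (nat_lit 4) [nat_lit 3, nat_lit 2, nat_lit 1, nat_lit 0, nat_lit 6, nat_lit 5, nat_lit 4, nat_lit 3, nat_lit 2, nat_lit 1, nat_lit 0, nat_lit 6, nat_lit 5, nat_lit 4, nat_lit 3, nat_lit 2, nat_lit 1, nat_lit 0, nat_lit 6, nat_lit 5, nat_lit 4, nat_lit 3, nat_lit 2, nat_lit 1, nat_lit 0, nat_lit 6, nat_lit 5, nat_lit 4, nat_lit 3, nat_lit 2, nat_lit 1, nat_lit 0, nat_lit 6, nat_lit 5, nat_lit 4, nat_lit 3, nat_lit 2, nat_lit 1, nat_lit 0, nat_lit 6, nat_lit 5, nat_lit 4, nat_lit 3, nat_lit 2, nat_lit 1, nat_lit 0, nat_lit 6, nat_lit 5, nat_lit 4, nat_lit 3, nat_lit 2, nat_lit 1, nat_lit 0, nat_lit 6, nat_lit 5, nat_lit 4, nat_lit 3, nat_lit 2, nat_lit 1, nat_lit 0, nat_lit 6, nat_lit 5])) (.node (nat_lit 296) (.leaf (nat_lit 260) (nat_lit 5) [nat_lit 4, nat_lit 3, nat_lit 2, nat_lit 1, nat_lit 0, nat_lit 6, nat_lit 5, nat_lit 4, nat_lit 3, nat_lit 2, nat_lit 1, nat_lit 0, nat_lit 6, nat_lit 5, nat_lit 4, nat_lit 3, nat_lit 2, nat_lit 1, nat_lit 0, nat_lit 6, nat_lit 5, nat_lit 4, nat_lit 3, nat_lit 2, nat_lit 1, nat_lit 0, nat_lit 6, nat_lit 5, nat_lit 4, nat_lit 3, nat_lit 2, nat_lit 1, nat_lit 0, nat_lit 6, nat_lit 5, nat_lit 4, nat_lit 3, nat_lit 2, nat_lit 1, nat_lit 0, nat_lit 6, nat_lit 5, nat_lit 4, nat_lit 3, nat_lit 2, nat_lit 1, nat_lit 0, nat_lit 6, nat_lit 5, nat_lit 4, nat_lit 3, nat_lit 2, nat_lit 1, nat_lit 0, nat_lit 6, nat_lit 5, nat_lit 4, nat_lit 3, nat_lit 2, nat_lit 1, nat_lit 0, nat_lit 6]) (.node (nat_lit 297) (.leaf (nat_lit 261) (nat_lit 6) [nat_lit 5, nat_lit 4, nat_lit 3, nat_lit 2, nat_lit 1, nat_lit 0, nat_lit 6, nat_lit 5, nat_lit 4, nat_lit 3, nat_lit 2, nat_lit 1, nat_lit 0, nat_lit 6, nat_lit 5, nat_lit 4, nat_lit 3, nat_lit 2, nat_lit 1, nat_lit 0, nat_lit 6, nat_lit 5, nat_lit 4, nat_lit 3, nat_lit 2, nat_lit 1, nat_lit 0, nat_lit 6, nat_lit 5, nat_lit 4, nat_lit 3, nat_lit 2, nat_lit 1, nat_lit 0, nat_lit 6, nat_lit 5, nat_lit 4, nat_lit 3, nat_lit 2, nat_lit 1, nat_lit 0, nat_lit 6, nat_lit 5, nat_lit 4, nat_lit 3, nat_lit 2, nat_lit 1, nat_lit 0, nat_lit 6, nat_lit 5, nat_lit 4, nat_lit 3, nat_lit 2, nat_lit 1, nat_lit 0, nat_lit 6, nat_lit 5, nat_lit 4, nat_lit 3, nat_lit 2, nat_lit 1, nat_lit 0]) (.leaf (nat_lit 255) (nat_lit 0) [nat_lit 6, nat_lit 5, nat_lit 4, nat_lit 3, nat_lit 2, nat_lit 1, nat_lit 0, nat_lit 6, nat_lit 5, nat_lit 4, nat_lit 3, nat_lit 2, nat_lit 1, nat_lit 0, nat_lit 6, nat_lit 5, nat_lit 4, nat_lit 3, nat_lit 2, nat_lit 1, nat_lit 0, nat_lit 6, nat_lit 5, nat_lit 4, nat_lit 3, nat_lit 2, nat_lit 1, nat_lit 0, nat_lit 6, nat_lit 5, nat_lit 4, nat_lit 3, nat_lit 2, nat_lit 1, nat_lit 0, nat_lit 6, nat_lit 5, nat_lit 4, nat_lit 3, nat_lit 2, nat_lit 1, nat_lit 0, nat_lit 6, nat_lit 5, nat_lit 4, nat_lit 3, nat_lit 2, nat_lit 1, nat_lit 0, nat_lit 6, nat_lit 5, nat_lit 4, nat_lit 3, nat_lit 2, nat_lit 1, nat_lit 0, nat_lit 6, nat_lit 5, nat_lit 4, nat_lit 3, nat_lit 2, nat_lit 1])))))) (.node (nat_lit 308) (.node (nat_lit 303) (.node (nat_lit 300) (.node (nat_lit 299) (.leaf (nat_lit 256) (nat_lit 1) [nat_lit 0, nat_lit 6, nat_lit 5, nat_lit 4, nat_lit 3, nat_lit 2, nat_lit 1, nat_lit 0, nat_lit 6, nat_lit 5, nat_lit 4, nat_lit 3, nat_lit 2, nat_lit 1, nat_lit 0, nat_lit 6, nat_lit 5, nat_lit 4, nat_lit 3, nat_lit 2, nat_lit 1, nat_lit 0, nat_lit 6, nat_lit 5, nat_lit 4, nat_lit 3, nat_lit 2, nat_lit 1, nat_lit 0, nat_lit 6, nat_lit 5, nat_lit 4, nat_lit 3, nat_lit 2, nat_lit 1, nat_lit 0, nat_lit 6, nat_lit 5, nat_lit 4, nat_lit 3, nat_lit 2, nat_lit 1, nat_lit 0, nat_lit 6, nat_lit 5, nat_lit 4, nat_lit 3, nat_lit 2, nat_lit 1, nat_lit 0, nat_lit 6, nat_lit 5, nat_lit 4, nat_lit 3, nat_lit 2, nat_lit 1, nat_lit 0, nat_lit 6, nat_lit 5, nat_lit 4, nat_lit 3, nat_lit 2]) (.leaf (nat_lit 257) (nat_lit 2) [nat_lit 1, nat_lit 0, nat_lit 6, nat_lit 5, nat_lit 4, nat_lit 3, nat_lit 2, nat_lit 1, nat_lit 0, nat_lit 6, nat_lit 5, nat_lit 4, nat_lit 3, nat_lit 2, nat_lit 1, nat_lit 0, nat_lit 6, nat_lit 5, nat_lit 4, nat_lit 3, nat_lit 2, nat_lit 1, nat_lit 0, nat_lit 6, nat_lit 5, nat_lit 4, nat_lit 3, nat_lit 2, nat_lit 1, nat_lit 0, nat_lit 6, nat_lit 5, nat_lit 4, nat_lit 3, nat_lit 2, nat_lit 1, nat_lit 0, nat_lit 6, nat_lit 5, nat_lit 4, nat_lit 3, nat_lit 2, nat_lit 1, nat_lit 0, nat_lit 6, nat_lit 5, nat_lit 4, nat_lit 3, nat_lit 2, nat_lit 1, nat_lit 0, nat_lit 6, nat_lit 5, nat_lit 4, nat_lit 3, nat_lit 2, nat_lit 1, nat_lit 0, nat_lit 6, nat_lit 5, nat_lit 4, nat_lit 3])) (.node (nat_lit 301) (.leaf (nat_lit 258) (nat_lit 3) [nat_lit 2, nat_lit 1, nat_lit 0, nat_lit 6, nat_lit 5, nat_lit 4, nat_lit 3, nat_lit 2, nat_lit 1, nat_lit 0, nat_lit 6, nat_lit 5, nat_lit 4, nat_lit 3, nat_lit 2, nat_lit 1, nat_lit 0, nat_lit 6, nat_lit 5, nat_lit 4, nat_lit 3, nat_lit 2, nat_lit 1, nat_lit 0, nat_lit 6, nat_lit 5, nat_lit 4, nat_lit 3, nat_lit 2, nat_lit 1, nat_lit 0, nat_lit 6, nat_lit 5, nat_lit 4, nat_lit 3, nat_lit 2, nat_lit 1, nat_lit 0, nat_lit 6, nat_lit 5, nat_lit 4, nat_lit 3, nat_lit 2, nat_lit 1, nat_lit 0, nat_lit 6, nat_lit 5, nat_lit 4, nat_lit 3, nat_lit 2, nat_lit 1, nat_lit 0, nat_lit 6, nat_lit 5, nat_lit 4, nat_lit 3, nat_lit 2, nat_lit 1, nat_lit 0, nat_lit 6, nat_lit 5, nat_lit 4]) (.node (nat_lit 302) (.leaf (nat_lit 259) (nat_lit 4) [nat_lit 3, nat_lit 2, nat_lit 1, nat_lit 0, nat_lit 6, nat_lit 5, nat_lit 4, nat_lit 3, nat_lit 2, nat_lit 1, nat_lit 0, nat_lit 6, nat_lit 5, nat_lit 4, nat_lit 3, nat_lit 2, nat_lit 1, nat_lit 0, nat_lit 6, nat_lit 5, nat_lit 4, nat_lit 3, nat_lit 2, nat_lit 1, nat_lit 0, nat_lit 6, nat_lit 5, nat_lit 4, nat_lit 3, nat_lit 2, nat_lit 1, nat_lit 0, nat_lit 6, nat_lit 5, nat_lit 4, nat_lit 3, nat_lit 2, nat_lit 1, nat_lit 0, nat_lit 6, nat_lit 5, nat_lit 4, nat_lit 3, nat_lit 2, nat_lit 1, nat_lit 0, nat_lit 6, nat_lit 5, nat_lit 4, nat_lit 3, nat_lit 2, nat_lit 1, nat_lit 0, nat_lit 6, nat_lit 5, nat_lit 4, nat_lit 3, nat_lit 2, nat_lit 1, nat_lit 0, nat_lit 6, nat_lit 5]) (.leaf (nat_lit 260) (nat_lit 5) [nat_lit 4, nat_lit 3, nat_lit 2, nat_lit 1, nat_lit 0, nat_lit 6, nat_lit 5, nat_lit 4, nat_lit 3, nat_lit 2, nat_lit 1, nat_lit 0, nat_lit 6, nat_lit 5, nat_lit 4, nat_lit 3, nat_lit 2, nat_lit 1, nat_lit 0, nat_lit 6, nat_lit 5, nat_lit 4, nat_lit 3, nat_lit 2, nat_lit 1, nat_lit 0, nat_lit 6, nat_lit 5, nat_lit 4, nat_lit 3, nat_lit 2, nat_lit 1, nat_lit 0, nat_lit 6, nat_lit 5, nat_lit 4, nat_lit 3, nat_lit 2, nat_lit 1, nat_lit 0, nat_lit 6, nat_lit 5, nat_lit 4, nat_lit 3, nat_lit 2, nat_lit 1, nat_lit 0, nat_lit 6, nat_lit 5, nat_lit 4, nat_lit 3, nat_lit 2, nat_lit 1, nat_lit 0, nat_lit 6, nat_lit 5, nat_lit 4, nat_lit 3, nat_lit 2, nat_lit 1, nat_lit 0, nat_lit 6])))) (.node (nat_lit 305) (.node (nat_lit 304) (.leaf (nat_lit 261) (nat_lit 6) [nat_lit 5, nat_lit 4, nat_lit 3, nat_lit 2, nat_lit 1, nat_lit 0, nat_lit 6, nat_lit 5, nat_lit 4, nat_lit 3, nat_lit 2, nat_lit 1, nat_lit 0, nat_lit 6, nat_lit 5, nat_lit 4, nat_lit 3, nat_lit 2, nat_lit 1, nat_lit 0, nat_lit 6, nat_lit 5, nat_lit 4, nat_lit 3, nat_lit 2, nat_lit 1, nat_lit 0, nat_lit 6, nat_lit 5, nat_lit 4, nat_lit 3, nat_lit 2, nat_lit 1, nat_lit 0, nat_lit 6, nat_lit 5, nat_lit 4, nat_lit 3, nat_lit 2, nat_lit 1, nat_lit 0, nat_lit 6, nat_lit 5, nat_lit 4, nat_lit 3, nat_lit 2, nat_lit 1, nat_lit 0, nat_lit 6, nat_lit 5, nat_lit 4, nat_lit 3, nat_lit 2, nat_lit 1, nat_lit 0, nat_lit 6, nat_lit 5, nat_lit 4, nat_lit 3, nat_lit 2, nat_lit 1, nat_lit 0]) (.leaf (nat_lit 255) (nat_lit 0) [nat_lit 6, nat_lit 5, nat_lit 4, nat_lit 3, nat_lit 2, nat_lit 1, nat_lit 0, nat_lit 6, nat_lit 5, nat_lit 4, nat_lit 3, nat_lit 2, nat_lit 1, nat_lit 0, nat_lit 6, nat_lit 5, nat_lit 4, nat_lit 3, nat_lit 2, nat_lit 1, nat_lit 0, nat_lit 6, nat_lit 5, nat_lit 4, nat_lit 3, nat_lit 2, nat_lit 1, nat_lit 0, nat_lit 6, nat_lit 5, nat_lit 4, nat_lit 3, nat_lit 2, nat_lit 1, nat_lit 0, nat_lit 6, nat_lit 5, nat_lit 4, nat_lit 3, nat_lit 2, nat_lit 1, nat_lit 0, nat_lit 6, nat_lit 5, nat_lit 4, nat_lit 3, nat_lit 2, nat_lit 1, nat_lit 0, nat_lit 6, nat_lit 5, nat_lit 4, nat_lit 3, nat_lit 2, nat_lit 1, nat_lit 0, nat_lit 6, nat_lit 5, nat_lit 4, nat_lit 3, nat_lit 2, nat_lit 1])) (.node (nat_lit 306) (.leaf (nat_lit 256) (nat_lit 1) [nat_lit 0, nat_lit 6, nat_lit 5, nat_lit 4, nat_lit 3, nat_lit 2, nat_lit 1, nat_lit 0, nat_lit 6, nat_lit 5, nat_lit 4, nat_lit 3, nat_lit 2, nat_lit 1, nat_lit 0, nat_lit 6, nat_lit 5, nat_lit 4, nat_lit 3, nat_lit 2, nat_lit 1, nat_lit 0, nat_lit 6, nat_lit 5, nat_lit 4, nat_lit 3, nat_lit 2, nat_lit 1, nat_lit 0, nat_lit 6, nat_lit 5, nat_lit 4, nat_lit 3, nat_lit 2, nat_lit 1, nat_lit 0, nat_lit 6, nat_lit 5, nat_lit 4, nat_lit 3, nat_lit 2, nat_lit 1, nat_lit 0, nat_lit 6, nat_lit 5, nat_lit 4, nat_lit 3, nat_lit 2, nat_lit 1, nat_lit 0, nat_lit 6, nat_lit 5, nat_lit 4, nat_lit 3, nat_lit 2, nat_lit 1, nat_lit 0, nat_lit 6, nat_lit 5, nat_lit 4, nat_lit 3, nat_lit 2]) (.node (nat_lit 307) (.leaf (nat_lit 257) (nat_lit 2) [nat_lit 1, nat_lit 0, nat_lit 6, nat_lit 5, nat_lit 4, nat_lit 3, nat_lit 2, nat_lit 1, nat_lit 0, nat_lit 6, nat_lit 5, nat_lit 4, nat_lit 3, nat_lit 2, nat_lit 1, nat_lit 0, nat_lit 6, nat_lit 5, nat_lit 4, nat_lit 3, nat_lit 2, nat_lit 1, nat_lit 0, nat_lit 6, nat_lit 5, nat_lit 4, nat_lit 3, nat_lit 2, nat_lit 1, nat_lit 0, nat_lit 6, nat_lit 5, nat_lit 4, nat_lit 3, nat_lit 2, nat_lit 1, nat_lit 0, nat_lit 6, nat_lit 5, nat_lit 4, nat_lit 3, nat_lit 2, nat_lit 1, nat_lit 0, nat_lit 6, nat_lit 5, nat_lit 4, nat_lit 3, nat_lit 2, nat_lit 1, nat_lit 0, nat_lit 6, nat_lit 5, nat_lit 4, nat_lit 3, nat_lit 2, nat_lit 1, nat_lit 0, nat_lit 6, nat_lit 5, nat_lit 4, nat_lit 3]) (.leaf (nat_lit 258) (nat_lit 3) [nat_lit 2, nat_lit 1, nat_lit 0, nat_lit 6, nat_lit 5, nat_lit 4, nat_lit 3, nat_lit 2, nat_lit 1, nat_lit 0, nat_lit 6, nat_lit 5, nat_lit 4, nat_lit 3, nat_lit 2, nat_lit 1, nat_lit 0, nat_lit 6, nat_lit 5, nat_lit 4, nat_lit 3, nat_lit 2, nat_lit 1, nat_lit 0, nat_lit 6, nat_lit 5, nat_lit 4, nat_lit 3, nat_lit 2, nat_lit 1, nat_lit 0, nat_lit 6, nat_lit 5, nat_lit 4, nat_lit 3, nat_lit 2, nat_lit 1, nat_lit 0, nat_lit 6, nat_lit 5, nat_lit 4, nat_lit 3, nat_lit 2, nat_lit 1, nat_lit 0, nat_lit 6, nat_lit 5, nat_lit 4, nat_lit 3, nat_lit 2, nat_lit 1, nat_lit 0, nat_lit 6, nat_lit 5, nat_lit 4, nat_lit 3, nat_lit 2, nat_lit 1, nat_lit 0, nat_lit 6, nat_lit 5, nat_lit 4]))))) (.node (nat_lit 313) (.node (nat_lit 310) (.node (nat_lit 309) (.leaf (nat_lit 259) (nat_lit 4) [nat_lit 3, nat_lit 2, nat_lit 1, nat_lit 0, nat_lit 6, nat_lit 5, nat_lit 4, nat_lit 3, nat_lit 2, nat_lit 1, nat_lit 0, nat_lit 6, nat_lit 5, nat_lit 4, nat_lit 3, nat_lit 2, nat_lit 1, nat_lit 0, nat_lit 6, nat_lit 5, nat_lit 4, nat_lit 3, nat_lit 2, nat_lit 1, nat_lit 0, nat_lit 6, nat_lit 5, nat_lit 4, nat_lit 3, nat_lit 2, nat_lit 1, nat_lit 0, nat_lit 6, nat_lit 5, nat_lit 4, nat_lit 3, nat_lit 2, nat_lit 1, nat_lit 0, nat_lit 6, nat_lit 5, nat_lit 4, nat_lit 3, nat_lit 2, nat_lit 1, nat_lit 0, nat_lit 6, nat_lit 5, nat_lit 4, nat_lit 3, nat_lit 2, nat_lit 1, nat_lit 0, nat_lit 6, nat_lit 5, nat_lit 4, nat_lit 3, nat_lit 2, nat_lit 1, nat_lit 0, nat_lit 6, nat_lit 5]) (.leaf (nat_lit 260) (nat_lit 5) [nat_lit 4, nat_lit 3, nat_lit 2, nat_lit 1, nat_lit 0, nat_lit 6, nat_lit 5, nat_lit 4, nat_lit 3, nat_lit 2, nat_lit 1, nat_lit 0, nat_lit 6, nat_lit 5, nat_lit 4, nat_lit 3, nat_lit 2, nat_lit 1, nat_lit 0, nat_lit 6, nat_lit 5, nat_lit 4, nat_lit 3, nat_lit 2, nat_lit 1, nat_lit 0, nat_lit 6, nat_lit 5, nat_lit 4, nat_lit 3, nat_lit 2, nat_lit 1, nat_lit 0, nat_lit 6, nat_lit 5, nat_lit 4, nat_lit 3, nat_lit 2, nat_lit 1, nat_lit 0, nat_lit 6, nat_lit 5, nat_lit 4, nat_lit 3, nat_lit 2, nat_lit 1, nat_lit 0, nat_lit 6, nat_lit 5, nat_lit 4, nat_lit 3, nat_lit 2, nat_lit 1, nat_lit 0, nat_lit 6, nat_lit 5, nat_lit 4, nat_lit 3, nat_lit 2, nat_lit 1, nat_lit 0, nat_lit 6])) (.node (nat_lit 311) (.leaf (nat_lit 261) (nat_lit 6) [nat_lit 5, nat_lit 4, nat_lit 3, nat_lit 2, nat_lit 1, nat_lit 0, nat_lit 6, nat_lit 5, nat_lit 4, nat_lit 3, nat_lit 2, nat_lit 1, nat_lit 0, nat_lit 6, nat_lit 5, nat_lit 4, nat_lit 3, nat_lit 2, nat_lit 1, nat_lit 0, nat_lit 6, nat_lit 5, nat_lit 4, nat_lit 3, nat_lit 2, nat_lit 1, nat_lit 0, nat_lit 6, nat_lit 5, nat_lit 4, nat_lit 3, nat_lit 2, nat_lit 1, nat_lit 0, nat_lit 6, nat_lit 5, nat_lit 4, nat_lit 3, nat_lit 2, nat_lit 1, nat_lit 0, nat_lit 6, nat_lit 5, nat_lit 4, nat_lit 3, nat_lit 2, nat_lit 1, nat_lit 0, nat_lit 6, nat_lit 5, nat_lit 4, nat_lit 3, nat_lit 2, nat_lit 1, nat_lit 0, nat_lit 6, nat_lit 5, nat_lit 4, nat_lit 3, nat_lit 2, nat_lit 1, nat_lit 0]) (.node (nat_lit 312) (.leaf (nat_lit 255) (nat_lit 0) [nat_lit 6, nat_lit 5, nat_lit 4, nat_lit 3, nat_lit 2, nat_lit 1, nat_lit 0, nat_lit 6, nat_lit 5, nat_lit 4, nat_lit 3, nat_lit 2, nat_lit 1, nat_lit 0, nat_lit 6, nat_lit 5, nat_lit 4, nat_lit 3, nat_lit 2, nat_lit 1, nat_lit 0, nat_lit 6, nat_lit 5, nat_lit 4, nat_lit 3, nat_lit 2, nat_lit 1, nat_lit 0, nat_lit 6, nat_lit 5, nat_lit 4, nat_lit 3, nat_lit 2, nat_lit 1, nat_lit 0, nat_lit 6, nat_lit 5, nat_lit 4, nat_lit 3, nat_lit 2, nat_lit 1, nat_lit 0, nat_lit 6, nat_lit 5, nat_lit 4, nat_lit 3, nat_lit 2, nat_lit 1, nat_lit 0, nat_lit 6, nat_lit 5, nat_lit 4, nat_lit 3, nat_lit 2, nat_lit 1, nat_lit 0, nat_lit 6, nat_lit 5, nat_lit 4, nat_lit 3, nat_lit 2, nat_lit 1]) (.leaf (nat_lit 256) (nat_lit 1) [nat_lit 0, nat_lit 6, nat_lit 5, nat_lit 4, nat_lit 3, nat_lit 2, nat_lit 1, nat_lit 0, nat_lit 6, nat_lit 5, nat_lit 4, nat_lit 3, nat_lit 2, nat_lit 1, nat_lit 0, nat_lit 6, nat_lit 5, nat_lit 4, nat_lit 3, nat_lit 2, nat_lit 1, nat_lit 0, nat_lit 6, nat_lit 5, nat_lit 4, nat_lit 3, nat_lit 2, nat_lit 1, nat_lit 0, nat_lit 6, nat_lit 5, nat_lit 4, nat_lit 3, nat_lit 2, nat_lit 1, nat_lit 0, nat_lit 6, nat_lit 5, nat_lit 4, nat_lit 3, nat_lit 2, nat_lit 1, nat_lit 0, nat_lit 6, nat_lit 5, nat_lit 4, nat_lit 3, nat_lit 2, nat_lit 1, nat_lit 0, nat_lit 6, nat_lit 5, nat_lit 4, nat_lit 3, nat_lit 2, nat_lit 1, nat_lit 0, nat_lit 6, nat_lit 5, nat_lit 4, nat_lit 3, nat_lit 2])))) (.node (nat_lit 315) (.node (nat_lit 314) (.leaf (nat_lit 257) (nat_lit 2) [nat_lit 1, nat_lit 0, nat_lit 6, nat_lit 5, nat_lit 4, nat_lit 3, nat_lit 2, nat_lit 1, nat_lit 0, nat_lit 6, nat_lit 5, nat_lit 4, nat_lit 3, nat_lit 2, nat_lit 1, nat_lit 0, nat_lit 6, nat_lit 5, nat_lit 4, nat_lit 3, nat_lit 2, nat_lit 1, nat_lit 0, nat_lit 6, nat_lit 5, nat_lit 4, nat_lit 3, nat_lit 2, nat_lit 1, nat_lit 0, nat_lit 6, nat_lit 5, nat_lit 4, nat_lit 3, nat_lit 2, nat_lit 1, nat_lit 0, nat_lit 6, nat_lit 5, nat_lit 4, nat_lit 3, nat_lit 2, nat_lit 1, nat_lit 0, nat_lit 6, nat_lit 5, nat_lit 4, nat_lit 3, nat_lit 2, nat_lit 1, nat_lit 0, nat_lit 6, nat_lit 5, nat_lit 4, nat_lit 3, nat_lit 2, nat_lit 1, nat_lit 0, nat_lit 6, nat_lit 5, nat_lit 4, nat_lit 3]) (.leaf (nat_lit 258) (nat_lit 3) [nat_lit 2, nat_lit 1, nat_lit 0, nat_lit 6, nat_lit 5, nat_lit 4, nat_lit 3, nat_lit 2, nat_lit 1, nat_lit 0, nat_lit 6, nat_lit 5, nat_lit 4, nat_lit 3, nat_lit 2, nat_lit 1, nat_lit 0, nat_lit 6, nat_lit 5, nat_lit 4, nat_lit 3, nat_lit 2, nat_lit 1, nat_lit 0, nat_lit 6, nat_lit 5, nat_lit 4, nat_lit 3, nat_lit 2, nat_lit 1, nat_lit 0, nat_lit 6, nat_lit 5, nat_lit 4, nat_lit 3, nat_lit 2, nat_lit 1, nat_lit 0, nat_lit 6, nat_lit 5, nat_lit 4, nat_lit 3, nat_lit 2, nat_lit 1, nat_lit 0, nat_lit 6, nat_lit 5, nat_lit 4, nat_lit 3, nat_lit 2, nat_lit 1, nat_lit 0, nat_lit 6, nat_lit 5, nat_lit 4, nat_lit 3, nat_lit 2, nat_lit 1, nat_lit 0, nat_lit 6, nat_lit 5, nat_lit 4])) (.node (nat_lit 316) (.leaf (nat_lit 259) (nat_lit 4) [nat_lit 3, nat_lit 2, nat_lit 1, nat_lit 0, nat_lit 6, nat_lit 5, nat_lit 4, nat_lit 3, nat_lit 2, nat_lit 1, nat_lit 0, nat_lit 6, nat_lit 5, nat_lit 4, nat_lit 3, nat_lit 2, nat_lit 1, nat_lit 0, nat_lit 6, nat_lit 5, nat_lit 4, nat_lit 3, nat_lit 2, nat_lit 1, nat_lit 0, nat_lit 6, nat_lit 5, nat_lit 4, nat_lit 3, nat_lit 2, nat_lit 1, nat_lit 0, nat_lit 6, nat_lit 5, nat_lit 4, nat_lit 3, nat_lit 2, nat_lit 1, nat_lit 0, nat_lit 6, nat_lit 5, nat_lit 4, nat_lit 3, nat_lit 2, nat_lit 1, nat_lit 0, nat_lit 6, nat_lit 5, nat_lit 4, nat_lit 3, nat_lit 2, nat_lit 1, nat_lit 0, nat_lit 6, nat_lit 5, nat_lit 4, nat_lit 3, nat_lit 2, nat_lit 1, nat_lit 0, nat_lit 6, nat_lit 5]) (.node (nat_lit 317) (.leaf (nat_lit 260) (nat_lit 5) [nat_lit 4, nat_lit 3, nat_lit 2, nat_lit 1, nat_lit 0, nat_lit 6, nat_lit 5, nat_lit 4, nat_lit 3, nat_lit 2, nat_lit 1, nat_lit 0, nat_lit 6, nat_lit 5, nat_lit 4, nat_lit 3, nat_lit 2, nat_lit 1, nat_lit 0, nat_lit 6, nat_lit 5, nat_lit 4, nat_lit 3, nat_lit 2, nat_lit 1, nat_lit 0, nat_lit 6, nat_lit 5, nat_lit 4, nat_lit 3, nat_lit 2, nat_lit 1, nat_lit 0, nat_lit 6, nat_lit 5, nat_lit 4, nat_lit 3, nat_lit 2, nat_lit 1, nat_lit 0, nat_lit 6, nat_lit 5, nat_lit 4, nat_lit 3, nat_lit 2, nat_lit 1, nat_lit 0, nat_lit 6, nat_lit 5, nat_lit 4, nat_lit 3, nat_lit 2, nat_lit 1, nat_lit 0, nat_lit 6, nat_lit 5, nat_lit 4, nat_lit 3, nat_lit 2, nat_lit 1, nat_lit 0, nat_lit 6]) (.leaf (nat_lit 261) (nat_lit 6) [nat_lit 5, nat_lit 4, nat_lit 3, nat_lit 2, nat_lit 1, nat_lit 0, nat_lit 6, nat_lit 5, nat_lit 4, nat_lit 3, nat_lit 2, nat_lit 1, nat_lit 0, nat_lit 6, nat_lit 5, nat_lit 4, nat_lit 3, nat_lit 2, nat_lit 1, nat_lit 0, nat_lit 6, nat_lit 5, nat_lit 4, nat_lit 3, nat_lit 2, nat_lit 1, nat_lit 0, nat_lit 6, nat_lit 5, nat_lit 4, nat_lit 3, nat_lit 2, nat_lit 1, nat_lit 0, nat_lit 6, nat_lit 5, nat_lit 4, nat_lit 3, nat_lit 2, nat_lit 1, nat_lit 0, nat_lit 6, nat_lit 5, nat_lit 4, nat_lit 3, nat_lit 2, nat_lit 1, nat_lit 0, nat_lit 6, nat_lit 5, nat_lit 4, nat_lit 3, nat_lit 2, nat_lit 1, nat_lit 0, nat_lit 6, nat_lit 5, nat_lit 4, nat_lit 3, nat_lit 2, nat_lit 1, nat_lit 0])))))))))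
/-- the relators -/
def relsL : List (List ℕ) := [[nat_lit 1, nat_lit 0, nat_lit 1, nat_lit 0, nat_lit 1, nat_lit 0],
  [nat_lit 2, nat_lit 0, nat_lit 2, nat_lit 0],
  [nat_lit 3, nat_lit 0, nat_lit 3, nat_lit 0],
  [nat_lit 4, nat_lit 0, nat_lit 4, nat_lit 0],
  [nat_lit 5, nat_lit 0, nat_lit 5, nat_lit 0],
  [nat_lit 6, nat_lit 0, nat_lit 6, nat_lit 0],
  [nat_lit 2, nat_lit 1, nat_lit 2, nat_lit 1, nat_lit 2, nat_lit 1],
  [nat_lit 3, nat_lit 1, nat_lit 3, nat_lit 1],
  [nat_lit 4, nat_lit 1, nat_lit 4, nat_lit 1],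
  [nat_lit 5, nat_lit 1, nat_lit 5, nat_lit 1],
  [nat_lit 6, nat_lit 1, nat_lit 6, nat_lit 1],
  [nat_lit 3, nat_lit 2, nat_lit 3, nat_lit 2, nat_lit 3, nat_lit 2],
  [nat_lit 4, nat_lit 2, nat_lit 4, nat_lit 2],
  [nat_lit 5, nat_lit 2, nat_lit 5, nat_lit 2],
  [nat_lit 6, nat_lit 2, nat_lit 6, nat_lit 2, nat_lit 6, nat_lit 2],
  [nat_lit 4, nat_lit 3, nat_lit 4, nat_lit 3, nat_lit 4, nat_lit 3],
  [nat_lit 5, nat_lit 3, nat_lit 5, nat_lit 3],
  [nat_lit 6, nat_lit 3, nat_lit 6, nat_lit 3],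
  [nat_lit 5, nat_lit 4, nat_lit 5, nat_lit 4, nat_lit 5, nat_lit 4],
  [nat_lit 6, nat_lit 4, nat_lit 6, nat_lit 4],
  [nat_lit 6, nat_lit 5, nat_lit 6, nat_lit 5],
  [nat_lit 6, nat_lit 5, nat_lit 4, nat_lit 3, nat_lit 2, nat_lit 1, nat_lit 0, nat_lit 6, nat_lit 5, nat_lit 4, nat_lit 3, nat_lit 2, nat_lit 1, nat_lit 0, nat_lit 6, nat_lit 5, nat_lit 4, nat_lit 3, nat_lit 2, nat_lit 1, nat_lit 0, nat_lit 6, nat_lit 5, nat_lit 4, nat_lit 3, nat_lit 2, nat_lit 1, nat_lit 0, nat_lit 6, nat_lit 5, nat_lit 4, nat_lit 3, nat_lit 2, nat_lit 1, nat_lit 0, nat_lit 6, nat_lit 5, nat_lit 4, nat_lit 3, nat_lit 2, nat_lit 1, nat_lit 0, nat_lit 6, nat_lit 5, nat_lit 4, nat_lit 3, nat_lit 2, nat_lit 1, nat_lit 0, nat_lit 6, nat_lit 5, nat_lit 4, nat_lit 3, nat_lit 2, nat_lit 1, nat_lit 0, nat_lit 6, nat_lit 5, nat_lit 4, nat_lit 3, nat_lit 2, nat_lit 1, nat_lit 0],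
  [nat_lit 0, nat_lit 0],
  [nat_lit 1, nat_lit 1],
  [nat_lit 2, nat_lit 2],
  [nat_lit 3, nat_lit 3],
  [nat_lit 4, nat_lit 4],
  [nat_lit 5, nat_lit 5],
  [nat_lit 6, nat_lit 6]]
/-- the subgroup words -/
def hwL : List (List ℕ) := [[nat_lit 0],
  [nat_lit 1],
  [nat_lit 2],
  [nat_lit 3],
  [nat_lit 4],
  [nat_lit 5]]

/-- the certificate -/
noncomputable def cfg : Cfg :=
  mkCfg (fun k => TT.fld tE (nat_lit 92) (nat_lit 1023) (nat_lit 4951760157141521099596496895) k)
    (nat_lit 2304) (nat_lit 288) (nat_lit 288) (nat_lit 7) (nat_lit 8)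
    (fun x => x)
    (fun k => TT.fld tP (nat_lit 32) (nat_lit 1023) (nat_lit 4294967295) k)
    (fun k => TT.fld tQ (nat_lit 32) (nat_lit 1023) (nat_lit 4294967295) k)
    rT hwL

/-- the orbit certificate -/
noncomputable def oc : OCert where
  oid := fun j => Nat.land (TT.fld tO (nat_lit 64) (nat_lit 1023) (nat_lit 18446744073709551615) j) (nat_lit 65535)
  prnt := fun j => Nat.land (Nat.shiftRight (TT.fld tO (nat_lit 64) (nat_lit 1023) (nat_lit 18446744073709551615) j) (nat_lit 16)) (nat_lit 16777215)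
  pw := fun j => Nat.land (Nat.shiftRight (TT.fld tO (nat_lit 64) (nat_lit 1023) (nat_lit 18446744073709551615) j) (nat_lit 40)) (nat_lit 255)
  rk := fun j => Nat.shiftRight (TT.fld tO (nat_lit 64) (nat_lit 1023) (nat_lit 18446744073709551615) j) (nat_lit 48)
  rep := fun d => List.getD [] d 0

/-- the relators -/
def rsL : List (FreeGroup (Fin 7)) := [((FreeGroup.of (0 : Fin 7)) * (FreeGroup.of (0 : Fin 7))) ^ 1,
  ((FreeGroup.of (0 : Fin 7)) * (FreeGroup.of (1 : Fin 7))) ^ 3,
  ((FreeGroup.of (0 : Fin 7)) * (FreeGroup.of (2 : Fin 7))) ^ 2,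
  ((FreeGroup.of (0 : Fin 7)) * (FreeGroup.of (3 : Fin 7))) ^ 2,
  ((FreeGroup.of (0 : Fin 7)) * (FreeGroup.of (4 : Fin 7))) ^ 2,
  ((FreeGroup.of (0 : Fin 7)) * (FreeGroup.of (5 : Fin 7))) ^ 2,
  ((FreeGroup.of (0 : Fin 7)) * (FreeGroup.of (6 : Fin 7))) ^ 2,
  ((FreeGroup.of (1 : Fin 7)) * (FreeGroup.of (1 : Fin 7))) ^ 1,
  ((FreeGroup.of (1 : Fin 7)) * (FreeGroup.of (2 : Fin 7))) ^ 3,
  ((FreeGroup.of (1 : Fin 7)) * (FreeGroup.of (3 : Fin 7))) ^ 2,
  ((FreeGroup.of (1 : Fin 7)) * (FreeGroup.of (4 : Fin 7))) ^ 2,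
  ((FreeGroup.of (1 : Fin 7)) * (FreeGroup.of (5 : Fin 7))) ^ 2,
  ((FreeGroup.of (1 : Fin 7)) * (FreeGroup.of (6 : Fin 7))) ^ 2,
  ((FreeGroup.of (2 : Fin 7)) * (FreeGroup.of (2 : Fin 7))) ^ 1,
  ((FreeGroup.of (2 : Fin 7)) * (FreeGroup.of (3 : Fin 7))) ^ 3,
  ((FreeGroup.of (2 : Fin 7)) * (FreeGroup.of (4 : Fin 7))) ^ 2,
  ((FreeGroup.of (2 : Fin 7)) * (FreeGroup.of (5 : Fin 7))) ^ 2,
  ((FreeGroup.of (2 : Fin 7)) * (FreeGroup.of (6 : Fin 7))) ^ 3,
  ((FreeGroup.of (3 : Fin 7)) * (FreeGroup.of (3 : Fin 7))) ^ 1,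
  ((FreeGroup.of (3 : Fin 7)) * (FreeGroup.of (4 : Fin 7))) ^ 3,
  ((FreeGroup.of (3 : Fin 7)) * (FreeGroup.of (5 : Fin 7))) ^ 2,
  ((FreeGroup.of (3 : Fin 7)) * (FreeGroup.of (6 : Fin 7))) ^ 2,
  ((FreeGroup.of (4 : Fin 7)) * (FreeGroup.of (4 : Fin 7))) ^ 1,
  ((FreeGroup.of (4 : Fin 7)) * (FreeGroup.of (5 : Fin 7))) ^ 3,
  ((FreeGroup.of (4 : Fin 7)) * (FreeGroup.of (6 : Fin 7))) ^ 2,
  ((FreeGroup.of (5 : Fin 7)) * (FreeGroup.of (5 : Fin 7))) ^ 1,
  ((FreeGroup.of (5 : Fin 7)) * (FreeGroup.of (6 : Fin 7))) ^ 2,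
  ((FreeGroup.of (6 : Fin 7)) * (FreeGroup.of (6 : Fin 7))) ^ 1,
  ((FreeGroup.of (0 : Fin 7)) * (FreeGroup.of (1 : Fin 7)) * (FreeGroup.of (2 : Fin 7)) * (FreeGroup.of (3 : Fin 7)) * (FreeGroup.of (4 : Fin 7)) * (FreeGroup.of (5 : Fin 7)) * (FreeGroup.of (6 : Fin 7))) ^ 9]

/-- the group side of the certificate -/
def D : Data (Fin 7) where
  lets := [(0,true),(1,true),(2,true),(3,true),(4,true),(5,true),(6,true)]
  rs := rsL
  Hs := [(FreeGroup.of (0 : Fin 7)), (FreeGroup.of (1 : Fin 7)), (FreeGroup.of (2 : Fin 7)), (FreeGroup.of (3 : Fin 7)), (FreeGroup.of (4 : Fin 7)), (FreeGroup.of (5 : Fin 7))]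
  rels := relsL
  hw := hwL

end Cfsg.Agent.Lib.Compute.TC.Fi22U2
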